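import Cfsg.Agent.H167.AltBldg
import Cfsg.Agent.H116.CY.Wit

/-!
# S4829 : the Steinberg character of a group acting on a building (helper315)

* `delta_map` : a map of chambers preserving the adjacencies preserves the Weyl distance;
* `stZ` : the integer valued alternating sum;
* `stZ_modEq` : its value modulo `p` at an element without common fixed residue with a `p`-group which it centralizes.
-/

set_option autoImplicit false
set_option linter.unusedSectionVars false

namespace Cfsg.Agent.H315.CY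

open Cfsg Cfsg.Agent Cfsg.Agent.Tits.Core Cfsg.Agent.Tits.Core.Bldg Cfsg.Agent.H167.AltTrace Cfsg.Agent.H167.AltBldg

variable {I : Type*} {M : CoxeterMatrix I} {W : Type*} [Group W] {cs : CoxeterSystem M W} {C : Type*}

/-- a map preserving the adjacencies preserves the Weyl distance -/
theorem delta_map (Δ : Bldg cs C) {f : C → C}
    (hf : ∀ x y i, Δ.δ x y = cs.simple i → Δ.δ (f x) (f y) = cs.simple i) :
    ∀ (n : ℕ) (x y : C), cs.length (Δ.δ x y) = n → Δ.δ (f x) (f y) = Δ.δ x y := by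
  intro n
  induction n using Nat.strong_induction_on with
  | _ n ih =>
  intro x y hn
  by_cases h1 : Δ.δ x y = 1
  · have hxy := (Δ.eq_one x y).1 h1
    subst hxy
    rw [h1]
    exact (Δ.eq_one _ _).2 rfl
  · obtain ⟨i, hi⟩ := cs.exists_rightDescent_of_ne_one h1
    have hi' : cs.length (Δ.δ x y * cs.simple i) < cs.length (Δ.δ x y) := hi
    obtain ⟨z, hz, hxz⟩ := Δ.exists_step x y i
    have h2 : cs.length (Δ.δ x z) < n := by rw [hxz, ← hn]; exact hi'
    have h3 := ih _ h2 x z rfl
    have hzy : Δ.δ z y = cs.simple i := by rw [Δ.symm, hz, cs.inv_simple]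
    have h4 := hf z y i hzy
    have e : Δ.δ x z * cs.simple i = Δ.δ x y := by rw [hxz, mul_assoc, cs.simple_mul_simple_self, mul_one]
    have h5 := Δ.step_lt (f x) (f z) (f y) i h4 (by rw [h3, e, hxz]; exact hi')
    rw [h5, h3, e]

section act

variable [DecidableEq I] [Fintype I] [Fintype C] (Δ : Bldg cs C) {A : Type*} [Group A] [MulAction A C]

/-- the alternating sum -/
noncomputable def stZ (P : Finset I → Subgroup A) (a : A) : ℤ :=
  ∑ J ∈ (Finset.univ : Finset I).powerset, (-1 : ℤ) ^ J.card * (Nat.card (MulAction.fixedBy (A ⧸ P J) a) : ℤ)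

theorem stZ_cast (P : Finset I → Subgroup A) (a : A) : ((stZ P a : ℤ) : ℂ) =
    ∑ J ∈ (Finset.univ : Finset I).powerset, (-1 : ℂ) ^ J.card * fixedPointCharacter (P J) a := by
  unfold stZ fixedPointCharacter
  push_cast
  rfl

theorem fixed_iff {P : Subgroup A} {a g : A} : a • (QuotientGroup.mk g : A ⧸ P) = QuotientGroup.mk g ↔
    g⁻¹ * a * g ∈ P := by
  have h1 : a • (QuotientGroup.mk g : A ⧸ P) = QuotientGroup.mk (a * g) := rfl
  rw [h1, eq_comm, QuotientGroup.eq, mul_assoc]

/-- **the value modulo `p`** at an element `a` which has no common fixed residue with the `p`-group `R` of elements commuting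
with `a` -/
theorem stZ_modEq [Finite A] (hiso : ∀ (g : A) (x y : C), Δ.δ (g • x) (g • y) = Δ.δ x y)
    {c : C} {P : Finset I → Subgroup A} (hP : ∀ J (g : A), g ∈ P J ↔ Δ.δ c (g • c) ∈ WJ cs (J : Set I))
    {p : ℕ} [hp : Fact p.Prime] {R : Subgroup A} (hR : IsPGroup p R) {a : A} (ha : ∀ q ∈ R, q * a = a * q)
    (hno : ∀ J : Finset I, J ≠ Finset.univ → ∀ x : C, (∀ q ∈ R, Δ.δ x (q • x) ∈ WJ cs (J : Set I)) →
      Δ.δ x (a • x) ∈ WJ cs (J : Set I) → False) :
    stZ P a ≡ (-1) ^ Fintype.card I [ZMOD p] := by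
  classical
  have hWu : WJ cs ((Finset.univ : Finset I) : Set I) = ⊤ := by
    rw [Finset.coe_univ]
    unfold WJ
    rw [Set.image_univ]
    exact cs.subgroup_closure_range_simple
  have hterm : ∀ J : Finset I, J ≠ Finset.univ → (p : ℤ) ∣ (Nat.card (MulAction.fixedBy (A ⧸ P J) a) : ℤ) := by
    intro J hJ
    let act : MulAction R (MulAction.fixedBy (A ⧸ P J) a) :=
      { smul := fun q x => ⟨(q : A) • (x : A ⧸ P J), by
          have hx : a • (x : A ⧸ P J) = x := x.2
          show a • ((q : A) • (x : A ⧸ P J)) = (q : A) • (x : A ⧸ P J)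
          rw [← mul_smul, ← ha q q.2, mul_smul, hx]⟩
        one_smul := fun x => Subtype.ext (one_smul A (x : A ⧸ P J))
        mul_smul := fun q q' x => Subtype.ext (mul_smul (q : A) (q' : A) (x : A ⧸ P J)) }
    have h1 := hR.card_modEq_card_fixedPoints (MulAction.fixedBy (A ⧸ P J) a)
    have h2 : Nat.card (MulAction.fixedPoints R (MulAction.fixedBy (A ⧸ P J) a)) = 0 := by
      rw [Nat.card_eq_zero]
      left
      refine ⟨?_⟩
      rintro ⟨⟨x, hx⟩, hxf⟩
      induction x using QuotientGroup.induction_on with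
      | _ g =>
      have hx' : a • (QuotientGroup.mk g : A ⧸ P J) = QuotientGroup.mk g := hx
      rw [fixed_iff, hP, ← hiso g, ← mul_smul, mul_assoc g⁻¹, mul_inv_cancel_left, mul_smul] at hx'
      refine hno J hJ (g • c) ?_ hx'
      intro q hq
      have h3 := congrArg Subtype.val (hxf ⟨q, hq⟩)
      have h4 : q • (QuotientGroup.mk g : A ⧸ P J) = QuotientGroup.mk g := h3
      rw [fixed_iff, hP, ← hiso g, ← mul_smul, mul_assoc g⁻¹, mul_inv_cancel_left, mul_smul] at h4
      exact h4
    rw [h2] at h1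
    exact_mod_cast (Nat.modEq_zero_iff_dvd).1 h1
  have huniv : Nat.card (MulAction.fixedBy (A ⧸ P Finset.univ) a) = 1 := by
    have hPt : P Finset.univ = ⊤ := by
      rw [eq_top_iff]
      intro g _
      rw [hP, hWu]
      exact Subgroup.mem_top _
    have hss : Subsingleton (A ⧸ (⊤ : Subgroup A)) := QuotientGroup.subsingleton_quotient_top
    rw [hPt, Nat.card_eq_one_iff_unique]
    refine ⟨⟨fun x y => Subtype.ext (Subsingleton.elim _ _)⟩, ⟨⟨QuotientGroup.mk 1, ?_⟩⟩⟩
    show a • (QuotientGroup.mk 1 : A ⧸ (⊤ : Subgroup A)) = _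
    exact Subsingleton.elim _ _
  unfold stZ
  rw [← Finset.add_sum_erase _ _ (Finset.mem_powerset_self (Finset.univ : Finset I)), huniv, Finset.card_univ]
  have h3 : ((p : ℕ) : ℤ) ∣ ∑ J ∈ ((Finset.univ : Finset I).powerset.erase Finset.univ),
      (-1 : ℤ) ^ J.card * (Nat.card (MulAction.fixedBy (A ⧸ P J) a) : ℤ) := by
    refine Finset.dvd_sum fun J hJ => ?_
    exact Dvd.dvd.mul_left (hterm J (Finset.ne_of_mem_erase hJ)) _
  have h4 := (Int.modEq_zero_iff_dvd.2 h3).add_left ((-1 : ℤ) ^ Fintype.card I * ((1 : ℕ) : ℤ))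
  refine h4.trans ?_
  rw [Nat.cast_one, mul_one, add_zero]

/-- the two alternating sums agree if the actions agree -/
theorem stZ_comp [Finite A] {K : Type*} [Group K] [Finite K] [MulAction K C]
    (hisoA : ∀ (g : A) (x y : C), Δ.δ (g • x) (g • y) = Δ.δ x y)
    (hisoK : ∀ (g : K) (x y : C), Δ.δ (g • x) (g • y) = Δ.δ x y)
    (htrA : ∀ x y : C, ∃ g : A, g • x = y) (htrK : ∀ x y : C, ∃ g : K, g • x = y)
    {c : C} {P : Finset I → Subgroup A} (hP : ∀ J (g : A), g ∈ P J ↔ Δ.δ c (g • c) ∈ WJ cs (J : Set I))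
    {Q : Finset I → Subgroup K} (hQ : ∀ J (g : K), g ∈ Q J ↔ Δ.δ c (g • c) ∈ WJ cs (J : Set I))
    {f : K → A} (hf : ∀ (g : K) (x : C), f g • x = g • x) (g : K) : stZ P (f g) = stZ Q g := by
  unfold stZ
  refine Finset.sum_congr rfl fun J _ => ?_
  rw [← card_fixed Δ hisoA c htrA J (P J) (hP J) (f g), ← card_fixed Δ hisoK c htrK J (Q J) (hQ J) g]
  simp only [hf]

end act

end Cfsg.Agent.H315.CY
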