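import Cfsg.Agent.H315.CY.StAbs
import Cfsg.Agent.H978.BR.StSplit

/-!
# S4829 : the Steinberg character of a type preserving group of automorphisms of a group with a split (B,N)-pair (helper315)

`TP P A` : every `a ∈ A` maps all the overgroups of `B` to conjugates by one element. Then `A` acts on the building, and the
Steinberg character has a canonical integer valued extension `stA` to `A`.
-/

set_option autoImplicit false
set_option linter.unusedSectionVars false

namespace Cfsg.Agent.H315.CY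

open Cfsg Cfsg.Agent Cfsg.Agent.Tits.Core Cfsg.Agent.Tits.Core.Bldg Cfsg.Agent.Tits.OfBN Cfsg.Agent.FixBN
open Cfsg.Agent.LieExceptional.BNPairCore Cfsg.Agent.H978.BR

universe u

variable {K : Type u} [Group K] {P : Cfsg.BNPair K}

/-- type preserving groups of automorphisms -/
def TP (P : Cfsg.BNPair K) (A : Subgroup (MulAut K)) : Prop :=
  ∀ a ∈ A, ∃ s : K, ∀ M : Subgroup K, P.B ≤ M → ∀ x, s⁻¹ * a x * s ∈ M ↔ x ∈ M

/-- `s` carries `B` to `a(B)` -/
def Sel (P : Cfsg.BNPair K) (a : MulAut K) (s : K) : Prop := ∀ x, s⁻¹ * a x * s ∈ P.B ↔ x ∈ P.B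

theorem Sel.unique {a : MulAut K} {s s' : K} (h : Sel P a s) (h' : Sel P a s') : s⁻¹ * s' ∈ P.B := by
  refine mem_of_conj_mem' (P := P) le_rfl fun b hb => ?_
  have h1 : a.symm (s' * b * s'⁻¹) ∈ P.B := (h' _).1 (by
    have e : s'⁻¹ * a (a.symm (s' * b * s'⁻¹)) * s' = b := by
      have : a (a.symm (s' * b * s'⁻¹)) = s' * b * s'⁻¹ := a.apply_symm_apply _
      rw [this]; group
    rw [e]; exact hb)
  have h2 := (h _).2 h1
  have e : s⁻¹ * a (a.symm (s' * b * s'⁻¹)) * s = s⁻¹ * s' * b * (s⁻¹ * s')⁻¹ := by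
    have : a (a.symm (s' * b * s'⁻¹)) = s' * b * s'⁻¹ := a.apply_symm_apply _
    rw [this]; group
  rwa [e] at h2

namespace TP

variable {A : Subgroup (MulAut K)} (H : TP P A)

/-- a choice -/
noncomputable def sel (a : A) : K := (H a a.2).choose

theorem sel_spec (a : A) {M : Subgroup K} (hM : P.B ≤ M) (x : K) :
    (H.sel a)⁻¹ * (a : MulAut K) x * H.sel a ∈ M ↔ x ∈ M := (H a a.2).choose_spec M hM x

theorem sel_Sel (a : A) : Sel P a (H.sel a) := fun x => H.sel_spec a le_rfl x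

/-- the action on the chambers -/
noncomputable def act (a : A) (x : K ⧸ P.B) : K ⧸ P.B := QuotientGroup.mk ((a : MulAut K) x.out * H.sel a)

theorem act_mk {a : A} {s : K} (hs : Sel P a s) (g : K) :
    H.act a (QuotientGroup.mk g) = QuotientGroup.mk ((a : MulAut K) g * s) := by
  obtain ⟨b, hb⟩ := QuotientGroup.mk_out_eq_mul P.B g
  unfold act
  rw [hb, QuotientGroup.eq]
  have h1 : (H.sel a)⁻¹ * (a : MulAut K) ((b : K)⁻¹) * H.sel a ∈ P.B := (H.sel_Sel a _).2 (inv_mem b.2)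
  have h2 := (H.sel_Sel a).unique hs
  have e : ((a : MulAut K) (g * b) * H.sel a)⁻¹ * ((a : MulAut K) g * s) =
      (H.sel a)⁻¹ * (a : MulAut K) ((b : K)⁻¹) * H.sel a * ((H.sel a)⁻¹ * s) := by
    rw [map_mul, map_inv]; group
  rw [e]
  exact mul_mem h1 h2

/-- the action -/
@[reducible] noncomputable def mact : MulAction A (K ⧸ P.B) where
  smul := H.act
  one_smul := by
    intro x
    induction x using QuotientGroup.induction_on with
    | _ g =>
    have h1 : H.act 1 (QuotientGroup.mk g) = QuotientGroup.mk (((1 : A) : MulAut K) g * 1) := by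
      refine H.act_mk ?_ g
      intro x
      have e : (1 : K)⁻¹ * ((1 : A) : MulAut K) x * 1 = x := by
        rw [inv_one, one_mul, mul_one]; rfl
      rw [e]
    show H.act 1 (QuotientGroup.mk g) = _
    rw [h1, mul_one]; rfl
  mul_smul := by
    intro a b x
    induction x using QuotientGroup.induction_on with
    | _ g =>
    have hs : Sel P ((a * b : A) : MulAut K) ((a : MulAut K) (H.sel b) * H.sel a) := by
      intro x
      have e : ((a : MulAut K) (H.sel b) * H.sel a)⁻¹ * ((a * b : A) : MulAut K) x * ((a : MulAut K) (H.sel b) * H.sel a) =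
          (H.sel a)⁻¹ * (a : MulAut K) ((H.sel b)⁻¹ * (b : MulAut K) x * H.sel b) * H.sel a := by
        have e1 : ((a * b : A) : MulAut K) x = (a : MulAut K) ((b : MulAut K) x) := rfl
        rw [e1, map_mul, map_mul, map_inv]; group
      rw [e, H.sel_Sel a _, H.sel_Sel b _]
    show H.act (a * b) (QuotientGroup.mk g) = H.act a (H.act b (QuotientGroup.mk g))
    rw [H.act_mk hs, H.act_mk (H.sel_Sel b), H.act_mk (H.sel_Sel a)]
    congr 1
    have e1 : ((a * b : A) : MulAut K) g = (a : MulAut K) ((b : MulAut K) g) := rfl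
    rw [e1, map_mul]; group

theorem act_conj (hA : ∀ s : K, MulAut.conj s ∈ A) (s : K) (x : K ⧸ P.B) : H.act ⟨MulAut.conj s, hA s⟩ x = s • x := by
  induction x using QuotientGroup.induction_on with
  | _ g =>
  rw [H.act_mk (s := s)]
  · show QuotientGroup.mk (s * g * s⁻¹ * s) = QuotientGroup.mk (s * g)
    congr 1; group
  · intro x
    have e : s⁻¹ * (MulAut.conj s) x * s = x := by
      show s⁻¹ * (s * x * s⁻¹) * s = x
      group
    show s⁻¹ * (MulAut.conj s) x * s ∈ P.B ↔ _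
    rw [e]

section Coxeter

variable [hN : ((P.B ⊓ P.N).subgroupOf P.N).Normal] {M : CoxeterMatrix P.S} (cs : CoxeterSystem M (WP P))
  (hcs : ∀ i, cs.simple i = QuotientGroup.mk (⟨((Equiv.refl P.S i : P.S) : K), P.subset (Equiv.refl P.S i).2⟩ : P.N))

/-- `A` acts by isometries -/
theorem act_iso (a : A) (x y : K ⧸ P.B) : (bldg P (Equiv.refl P.S) cs hcs).δ (H.act a x) (H.act a y) =
    (bldg P (Equiv.refl P.S) cs hcs).δ x y := by
  refine delta_map (bldg P (Equiv.refl P.S) cs hcs) (f := H.act a) ?_ _ x y rfl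
  intro x y i hxy
  induction x using QuotientGroup.induction_on with
  | _ g =>
  induction y using QuotientGroup.induction_on with
  | _ k =>
  rw [H.act_mk (H.sel_Sel a), H.act_mk (H.sel_Sel a)]
  have h1 : wt P (g⁻¹ * k) = cs.simple i := by rw [← dist_mk]; exact hxy
  rw [hcs] at h1
  have h2 := mem_C_of_wt P h1
  have hi : ((Equiv.refl P.S i : P.S) : K) = (i : K) := rfl
  have hpar : g⁻¹ * k ∈ P.parabolic {(i : K)} := by
    refine mem_of_mem_C' (P := P) le_sup_left h2 ?_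
    exact (le_sup_right : Subgroup.closure {(i : K)} ≤ _) (Subgroup.subset_closure rfl)
  have hnB : g⁻¹ * k ∉ P.B := by
    intro hB
    have h3 : C P (1 : K) = C P (i : K) := by
      have h4 := C_eq_of_mem h2
      have h5 := C_eq_of_mem ((mem_C_one (P := P)).2 hB)
      rw [← h5, h4]
      rfl
    have h6 := self_mem_C (P := P) (i : K)
    rw [← h3, mem_C_one] at h6
    exact not_mem_B i.2 h6
  show dist P _ _ = _
  rw [dist_mk, hcs]
  apply wt_of_mem
  have e : ((a : MulAut K) g * H.sel a)⁻¹ * ((a : MulAut K) k * H.sel a) =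
      (H.sel a)⁻¹ * (a : MulAut K) (g⁻¹ * k) * H.sel a := by
    rw [map_mul, map_inv]; group
  rw [e]
  have h7 : (H.sel a)⁻¹ * (a : MulAut K) (g⁻¹ * k) * H.sel a ∈ P.parabolic {(i : K)} :=
    (H.sel_spec a le_sup_left _).2 hpar
  rcases mem_par i.2 h7 with h8 | h8
  · exact absurd ((H.sel_Sel a _).1 h8) hnB
  · exact h8

/-- the stabilizer in `A` of the `J`-residue of the base chamber -/
noncomputable def PA (J : Finset P.S) : Subgroup A where
  carrier := {a | (bldg P (Equiv.refl P.S) cs hcs).δ (QuotientGroup.mk 1) (H.act a (QuotientGroup.mk 1)) ∈ WJ cs (J : Set P.S)}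
  one_mem' := by
    let _ := H.mact
    show (bldg P (Equiv.refl P.S) cs hcs).δ (QuotientGroup.mk 1) ((1 : A) • (QuotientGroup.mk 1 : K ⧸ P.B)) ∈
      WJ cs (J : Set P.S)
    rw [one_smul, ((bldg P (Equiv.refl P.S) cs hcs).eq_one _ _).2 rfl]
    exact one_mem _
  mul_mem' := by
    intro a b ha hb
    let _ := H.mact
    set Δ := bldg P (Equiv.refl P.S) cs hcs with hΔ
    show Δ.δ (QuotientGroup.mk 1) ((a * b) • (QuotientGroup.mk 1 : K ⧸ P.B)) ∈ WJ cs (J : Set P.S)
    have h1 : (a • (QuotientGroup.mk 1 : K ⧸ P.B)) ∈ Δ.Res (J : Set P.S) (QuotientGroup.mk 1) := Δ.mem_Res.2 ha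
    have h2 : (a • b • (QuotientGroup.mk 1 : K ⧸ P.B)) ∈ Δ.Res (J : Set P.S) (a • (QuotientGroup.mk 1 : K ⧸ P.B)) := by
      rw [Δ.mem_Res]
      have := H.act_iso cs hcs a (QuotientGroup.mk 1) (H.act b (QuotientGroup.mk 1))
      show Δ.δ (H.act a (QuotientGroup.mk 1)) (H.act a (H.act b (QuotientGroup.mk 1))) ∈ WJ cs (J : Set P.S)
      rw [hΔ, this]
      exact hb
    rw [mul_smul]
    exact Δ.mem_Res.1 (Δ.mem_Res_trans h1 h2)
  inv_mem' := by
    intro a ha
    let _ := H.mact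
    set Δ := bldg P (Equiv.refl P.S) cs hcs with hΔ
    show Δ.δ (QuotientGroup.mk 1) (a⁻¹ • (QuotientGroup.mk 1 : K ⧸ P.B)) ∈ WJ cs (J : Set P.S)
    have h0 := H.act_iso cs hcs a (QuotientGroup.mk 1) (a⁻¹ • (QuotientGroup.mk 1 : K ⧸ P.B))
    have h00 : H.act a (a⁻¹ • (QuotientGroup.mk 1 : K ⧸ P.B)) = QuotientGroup.mk 1 := smul_inv_smul a _
    rw [h00] at h0
    rw [hΔ, ← h0]
    have h1 : (a • (QuotientGroup.mk 1 : K ⧸ P.B)) ∈ Δ.Res (J : Set P.S) (QuotientGroup.mk 1) := Δ.mem_Res.2 ha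
    exact Δ.mem_Res.1 (Δ.mem_Res_symm h1)

theorem mem_PA (J : Finset P.S) (a : A) : a ∈ H.PA cs hcs J ↔
    (bldg P (Equiv.refl P.S) cs hcs).δ (QuotientGroup.mk 1) (H.act a (QuotientGroup.mk 1)) ∈ WJ cs (J : Set P.S) := Iff.rfl

/-- **The Steinberg character of `A`**: integer valued, irreducible on `K`, of degree `|U|`; its value at an element fixing
the base chamber is the number of fixed opposite chambers. -/
theorem stA [Finite K] [Fintype P.S] [DecidableEq P.S] {r : ℕ} [Fact r.Prime] {U : Subgroup K} (h : Split P r U)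
    (hA : ∀ s : K, MulAut.conj s ∈ A) :
    IsIrrCharacter A (fun a => ((stZ (H.PA cs hcs) a : ℤ) : ℂ)) ∧
      IsIrrCharacter K (fun s => ((stZ (H.PA cs hcs) ⟨MulAut.conj s, hA s⟩ : ℤ) : ℂ)) ∧
      stZ (H.PA cs hcs) 1 = Nat.card U ∧
      ∀ a : A, H.act a (QuotientGroup.mk 1) = QuotientGroup.mk 1 → stZ (H.PA cs hcs) a =
        (Nat.card {y : K ⧸ P.B // (bldg P (Equiv.refl P.S) cs hcs).Opp (QuotientGroup.mk 1) y ∧ H.act a y = y} : ℤ) := by
  let _ := H.mact
  have : Fintype (K ⧸ P.B) := Fintype.ofFinite _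
  have : Fintype K := Fintype.ofFinite _
  have hC : Tits.OppRes.Cox cs := inferInstance
  have hfW : Finite (WP P) := inferInstance
  set Δ := bldg P (Equiv.refl P.S) cs hcs with hΔ
  let S : FixBN.Sys Δ K r := FixBN.OfBN.sys (Equiv.refl P.S) cs hcs h
  set c : K ⧸ P.B := QuotientGroup.mk 1 with hc
  have hisoK : ∀ (g : K) (x y : K ⧸ P.B), Δ.δ (g • x) (g • y) = Δ.δ x y := fun g x y => dist_smul P g x y
  have hisoA : ∀ (g : A) (x y : K ⧸ P.B), Δ.δ (g • x) (g • y) = Δ.δ x y := fun g x y => H.act_iso cs hcs g x y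
  have htrK : ∀ x y x' y', Δ.δ x y = Δ.δ x' y' → ∃ g : K, g • x = x' ∧ g • y = y' :=
    fun x y x' y' hd => Cfsg.Agent.Tits.OfBN.trans P x y x' y' hd
  have hcomp : ∀ (s : K) (x : K ⧸ P.B), (⟨MulAut.conj s, hA s⟩ : A) • x = s • x := fun s x => H.act_conj hA s x
  have htrA : ∀ x y x' y', Δ.δ x y = Δ.δ x' y' → ∃ g : A, g • x = x' ∧ g • y = y' := by
    intro x y x' y' hd
    obtain ⟨g, h1, h2⟩ := htrK x y x' y' hd
    exact ⟨⟨MulAut.conj g, hA g⟩, by rw [hcomp, h1], by rw [hcomp, h2]⟩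
  -- the apartment
  let ap : WP P → K ⧸ P.B := fun w => QuotientGroup.mk ((w.out : P.N) : K)
  have hap : ∀ v w, Δ.δ (ap v) (ap w) = v⁻¹ * w := by
    intro v w
    show dist P (QuotientGroup.mk ((v.out : P.N) : K)) (QuotientGroup.mk ((w.out : P.N) : K)) = _
    rw [dist_mk]
    have h1 : ((v.out : P.N) : K)⁻¹ * ((w.out : P.N) : K) = ((v.out⁻¹ * w.out : P.N) : K) := by push_cast; rfl
    rw [h1, wt_of_mem P (n := v.out⁻¹ * w.out) (LieExceptional.BNPairCore.self_mem_C _), QuotientGroup.mk_mul,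
      QuotientGroup.mk_inv, QuotientGroup.out_eq', QuotientGroup.out_eq']
  obtain ⟨hirrA, hvalA⟩ := H167.AltBldg.exists_char_alt Δ hisoA htrA ap hap c (H.PA cs hcs) (fun J g => H.mem_PA cs hcs J g)
  -- the parabolic subgroups of `K`
  let Q : Finset P.S → Subgroup K := fun J => (H.PA cs hcs J).comap
    ((MulAut.conj : K →* MulAut K).codRestrict A hA)
  have hQ : ∀ (J : Finset P.S) (g : K), g ∈ Q J ↔ Δ.δ c (g • c) ∈ WJ cs (J : Set P.S) := by
    intro J g
    show ((MulAut.conj : K →* MulAut K).codRestrict A hA) g ∈ H.PA cs hcs J ↔ _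
    rw [H.mem_PA, ← hcomp g c]
    rfl
  obtain ⟨hirrK, hvalK⟩ := H167.AltBldg.exists_char_alt Δ hisoK htrK ap hap c Q hQ
  have htr1 : ∀ {L : Type u} [Group L] [MulAction L (K ⧸ P.B)], (∀ x y x' y', Δ.δ x y = Δ.δ x' y' →
      ∃ g : L, g • x = x' ∧ g • y = y') → ∀ x y : K ⧸ P.B, ∃ g : L, g • x = y := by
    intro L _ _ htr x y
    obtain ⟨g, hg, -⟩ := htr x x y y (by rw [(Δ.eq_one x x).2 rfl, (Δ.eq_one y y).2 rfl])
    exact ⟨g, hg⟩
  have hcmp : ∀ s : K, stZ (H.PA cs hcs) (⟨MulAut.conj s, hA s⟩ : A) = stZ Q s := fun s =>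
    stZ_comp Δ hisoA hisoK (htr1 htrA) (htr1 htrK) (c := c) (fun J g => H.mem_PA cs hcs J g) hQ
      (f := fun s => (⟨MulAut.conj s, hA s⟩ : A)) hcomp s
  refine ⟨?_, ?_, ?_, ?_⟩
  · simp only [stZ_cast]
    exact hirrA
  · simp only [hcmp, stZ_cast]
    exact hirrK
  · have h1 : (1 : A) = (⟨MulAut.conj 1, hA 1⟩ : A) := Subtype.ext (map_one _).symm
    rw [h1, hcmp]
    have h2 := hvalK c 1 (one_smul _ _)
    rw [← stZ_cast] at h2
    have h3 : (stZ Q (1 : K)) = (Nat.card {y : K ⧸ P.B // Δ.Opp c y ∧ (1 : K) • y = y} : ℤ) := by exact_mod_cast h2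
    rw [h3]
    congr 1
    obtain ⟨d, hd⟩ : ∃ d, Δ.Opp c d := Tits.Opp.exists_opp Δ c
    have hUc : ∀ u : K, u ∈ S.U c ↔ u ∈ U := by
      intro u
      show u ∈ FixBN.OfBN.UU P U (QuotientGroup.mk 1) ↔ u ∈ U
      rw [FixBN.OfBN.mem_UU h]
      simp
    have hopp : ∀ g : K, g • c = c → ∀ y, Δ.Opp c y → Δ.Opp c (g • y) := by
      intro g hg y hy
      have h1 := hisoK g c y
      rw [hg] at h1
      exact h1.trans hy
    refine (Nat.card_congr (Equiv.ofBijective
      (fun v : U => (⟨(v : K) • d, hopp v (S.fix c v ((hUc _).2 v.2)) d hd, one_smul _ _⟩ :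
        {y : K ⧸ P.B // Δ.Opp c y ∧ (1 : K) • y = y})) ⟨?_, ?_⟩)).symm
    · intro v w hvw
      have h1 : (v : K) • d = (w : K) • d := congrArg Subtype.val hvw
      have h2 : ((w : K)⁻¹ * v) • d = d := by rw [mul_smul, h1, inv_smul_smul]
      have h3 := S.free c d hd _ ((hUc _).2 (mul_mem (inv_mem w.2) v.2)) h2
      exact Subtype.ext (inv_mul_eq_one.1 h3).symm
    · rintro ⟨e, he, -⟩
      obtain ⟨v, hv, rfl⟩ := S.trans c d e hd he
      exact ⟨⟨v, (hUc _).1 hv⟩, rfl⟩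
  · intro a ha
    have h2 := hvalA c a ha
    rw [← stZ_cast] at h2
    exact_mod_cast h2

end Coxeter

end TP

end Cfsg.Agent.H315.CY
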