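import Cfsg.Agent.H315.CY.StAct

/-!
# S4829 : rows from the Steinberg character of a split (B,N)-pair (helper315)

* `TP.noFix` : the value `(-1) ^ rank` modulo `p` if there is no common fixed proper residue;
* `TP.base` : the value `1` modulo `p` if the base chamber is fixed;
* `rowA_of_TP` : the row.
-/

set_option autoImplicit false
set_option linter.unusedSectionVars false

namespace Cfsg.Agent.H315.CY

open Cfsg Cfsg.Agent Cfsg.Agent.Tits.Core Cfsg.Agent.Tits.Core.Bldg Cfsg.Agent.Tits.OfBN Cfsg.Agent.FixBN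
open Cfsg.Agent.LieExceptional.BNPairCore Cfsg.Agent.H978.BR Cfsg.Agent.H770.CY

universe u

/-- a coset `u n B` fixed by `Q` is `n B` if `C_U(Q) = 1` -/
theorem fix_core {G : Type*} [Group G] [Finite G] {r : ℕ} [hr : Fact r.Prime] {U T B : Subgroup G}
    (hUr : IsPGroup r U) (hUB : U ≤ B) (hTB : T ≤ B) (hTU : ∀ t ∈ T, ∀ u ∈ U, t * u * t⁻¹ ∈ U)
    {p : ℕ} [hp : Fact p.Prime] (hpr : p ≠ r) {Q : Subgroup G} (hQ : IsPGroup p Q) (hQT : Q ≤ T)
    (hU : ∀ u ∈ U, (∀ q ∈ Q, q * u = u * q) → u = 1) {n₀ u : G} (hn : ∀ t ∈ T, n₀⁻¹ * t * n₀ ∈ T) (hu : u ∈ U)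
    (hfix : ∀ q ∈ Q, (u * n₀)⁻¹ * q * (u * n₀) ∈ B) : n₀⁻¹ * u * n₀ ∈ B := by
  have hconj : ∀ q ∈ Q, ∀ u ∈ U, q * u * q⁻¹ ∈ U := fun q hq u hu => hTU q (hQT hq) u hu
  let V : Subgroup G := U ⊓ B.map (MulAut.conj n₀).toMonoidHom
  have hVmem : ∀ v : G, v ∈ V ↔ v ∈ U ∧ n₀⁻¹ * v * n₀ ∈ B := by
    intro v
    show (v ∈ U ∧ v ∈ B.map (MulAut.conj n₀).toMonoidHom) ↔ _
    refine and_congr_right fun _ => ?_
    constructor
    · rintro ⟨y, hy, rfl⟩
      have e : n₀⁻¹ * ((MulAut.conj n₀).toMonoidHom y) * n₀ = y := by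
        show n₀⁻¹ * (n₀ * y * n₀⁻¹) * n₀ = y
        group
      rw [e]; exact hy
    · intro hv
      exact ⟨n₀⁻¹ * v * n₀, hv, by show n₀ * (n₀⁻¹ * v * n₀) * n₀⁻¹ = v; group⟩
  have hTn : ∀ q ∈ Q, n₀⁻¹ * q * n₀ ∈ B := fun q hq => hTB (hn q (hQT hq))
  have hVQ : ∀ q ∈ Q, ∀ v ∈ V, q * v * q⁻¹ ∈ V := by
    intro q hq v hv
    rw [hVmem] at hv ⊢
    refine ⟨hconj q hq v hv.1, ?_⟩
    have e : n₀⁻¹ * (q * v * q⁻¹) * n₀ = (n₀⁻¹ * q * n₀) * (n₀⁻¹ * v * n₀) * (n₀⁻¹ * q * n₀)⁻¹ := by group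
    rw [e]
    exact mul_mem (mul_mem (hTn q hq) hv.2) (inv_mem (hTn q hq))
  have hfx : ∀ q ∈ Q, u⁻¹ * (q * u * q⁻¹) ∈ V := by
    intro q hq
    rw [hVmem]
    refine ⟨mul_mem (inv_mem hu) (hconj q hq u hu), ?_⟩
    have e : n₀⁻¹ * (u⁻¹ * (q * u * q⁻¹)) * n₀ = ((u * n₀)⁻¹ * q * (u * n₀)) * (n₀⁻¹ * q * n₀)⁻¹ := by group
    rw [e]
    exact mul_mem (hfix q hq) (inv_mem (hTn q hq))
  obtain ⟨v, hv, hvfix⟩ : ∃ v ∈ V, ∀ q ∈ Q, q * (u * v) * q⁻¹ = u * v := by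
    let act : MulAction Q V :=
      { smul := fun q v => ⟨u⁻¹ * ((q : G) * (u * v) * (q : G)⁻¹), by
          have e : u⁻¹ * ((q : G) * (u * v) * (q : G)⁻¹) = (u⁻¹ * ((q : G) * u * (q : G)⁻¹)) * ((q : G) * v * (q : G)⁻¹) := by
            group
          rw [e]
          exact mul_mem (hfx q q.2) (hVQ q q.2 v v.2)⟩
        one_smul := fun v => Subtype.ext (by
          show u⁻¹ * (((1 : Q) : G) * (u * v) * ((1 : Q) : G)⁻¹) = v
          rw [Subgroup.coe_one]; group)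
        mul_smul := fun q q' v => Subtype.ext (by
          show u⁻¹ * (((q * q' : Q) : G) * (u * v) * ((q * q' : Q) : G)⁻¹) =
            u⁻¹ * ((q : G) * (u * (u⁻¹ * ((q' : G) * (u * v) * (q' : G)⁻¹))) * (q : G)⁻¹)
          rw [Subgroup.coe_mul]; group) }
    have h1 := hQ.card_modEq_card_fixedPoints V
    have h2 : ¬ p ∣ Nat.card V := by
      have hVU : V ≤ U := inf_le_left
      have h3 : Nat.card V ∣ Nat.card U := Subgroup.card_dvd_of_le hVU
      obtain ⟨k, hk⟩ := IsPGroup.iff_card.1 hUr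
      rw [hk] at h3
      intro h4
      exact hpr ((Nat.prime_dvd_prime_iff_eq hp.out hr.out).1 (hp.out.dvd_of_dvd_pow (h4.trans h3)))
    have h3 : Nat.card (MulAction.fixedPoints Q V) ≠ 0 := by
      intro h4
      rw [h4] at h1
      exact h2 ((Nat.modEq_zero_iff_dvd).1 h1)
    obtain ⟨⟨⟨v, hv⟩, hvf⟩⟩ := (Nat.card_ne_zero.1 h3).1
    refine ⟨v, hv, fun q hq => ?_⟩
    have h5 := congrArg Subtype.val (hvf ⟨q, hq⟩)
    have h6 : u⁻¹ * (q * (u * v) * q⁻¹) = v := h5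
    calc q * (u * v) * q⁻¹ = u * (u⁻¹ * (q * (u * v) * q⁻¹)) := by group
      _ = u * v := by rw [h6]
  have huv : u * v = 1 := by
    refine hU _ (mul_mem hu hv.1) fun q hq => ?_
    have h1 := hvfix q hq
    calc q * (u * v) = q * (u * v) * q⁻¹ * q := by group
      _ = u * v * q := by rw [h1]
  have hu' : u = v⁻¹ := eq_inv_of_mul_eq_one_left huv
  have hvV : v⁻¹ ∈ V := inv_mem hv
  rw [← hu', hVmem] at hvV
  exact hvV.2

namespace TP

variable {K : Type u} [Group K] {P : Cfsg.BNPair K} {A : Subgroup (MulAut K)} (H : TP P A)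

section Coxeter

variable [hN : ((P.B ⊓ P.N).subgroupOf P.N).Normal] {M : CoxeterMatrix P.S} (cs : CoxeterSystem M (WP P))
  (hcs : ∀ i, cs.simple i = QuotientGroup.mk (⟨((Equiv.refl P.S i : P.S) : K), P.subset (Equiv.refl P.S i).2⟩ : P.N))

/-- the parabolic subgroup of type `J` -/
noncomputable def PK (hA : ∀ s : K, MulAut.conj s ∈ A) (J : Finset P.S) : Subgroup K :=
  (H.PA cs hcs J).comap ((MulAut.conj : K →* MulAut K).codRestrict A hA)

theorem mem_PK (hA : ∀ s : K, MulAut.conj s ∈ A) (J : Finset P.S) (g : K) : g ∈ H.PK cs hcs hA J ↔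
    (bldg P (Equiv.refl P.S) cs hcs).δ (QuotientGroup.mk 1) (QuotientGroup.mk g) ∈ WJ cs (J : Set P.S) := by
  show ((MulAut.conj : K →* MulAut K).codRestrict A hA) g ∈ H.PA cs hcs J ↔ _
  rw [H.mem_PA]
  have h1 : H.act ((MulAut.conj : K →* MulAut K).codRestrict A hA g) (QuotientGroup.mk 1) = QuotientGroup.mk g := by
    have h2 := H.act_conj hA g (QuotientGroup.mk 1)
    refine Eq.trans h2 ?_
    show QuotientGroup.mk (g * 1) = _
    rw [mul_one]
  rw [h1]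

theorem mem_PK_iff (hA : ∀ s : K, MulAut.conj s ∈ A) (J : Finset P.S) (g k : K) : g⁻¹ * k ∈ H.PK cs hcs hA J ↔
    (bldg P (Equiv.refl P.S) cs hcs).δ (QuotientGroup.mk g) (QuotientGroup.mk k) ∈ WJ cs (J : Set P.S) := by
  rw [mem_PK]
  have h1 : (bldg P (Equiv.refl P.S) cs hcs).δ (g • QuotientGroup.mk 1) (g • QuotientGroup.mk (g⁻¹ * k)) =
      (bldg P (Equiv.refl P.S) cs hcs).δ (QuotientGroup.mk 1) (QuotientGroup.mk (g⁻¹ * k)) := dist_smul P g _ _
  rw [← h1]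
  have e1 : g • (QuotientGroup.mk 1 : K ⧸ P.B) = QuotientGroup.mk g := by
    show QuotientGroup.mk (g * 1) = _
    rw [mul_one]
  have e2 : g • (QuotientGroup.mk (g⁻¹ * k) : K ⧸ P.B) = QuotientGroup.mk k := by
    show QuotientGroup.mk (g * (g⁻¹ * k)) = _
    rw [mul_inv_cancel_left]
  rw [e1, e2]

theorem le_PK (hA : ∀ s : K, MulAut.conj s ∈ A) (J : Finset P.S) : P.B ≤ H.PK cs hcs hA J := by
  intro b hb
  rw [mem_PK]
  have h1 : (QuotientGroup.mk b : K ⧸ P.B) = QuotientGroup.mk 1 := by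
    rw [QuotientGroup.eq, mul_one]
    exact inv_mem hb
  rw [h1, ((bldg P (Equiv.refl P.S) cs hcs).eq_one _ _).2 rfl]
  exact one_mem _

theorem PK_ne_top [Finite K] (hA : ∀ s : K, MulAut.conj s ∈ A) {J : Finset P.S} [Fintype P.S] (hJ : J ≠ Finset.univ) :
    H.PK cs hcs hA J ≠ ⊤ := by
  have hC : Tits.OppRes.Cox cs := inferInstance
  intro htop
  apply hJ
  rw [Finset.eq_univ_iff_forall]
  intro s
  have h0 : (s : K) ∈ H.PK cs hcs hA J := by rw [htop]; exact Subgroup.mem_top _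
  rw [mem_PK] at h0
  have h1 : (bldg P (Equiv.refl P.S) cs hcs).δ (QuotientGroup.mk 1) (QuotientGroup.mk (s : K)) = cs.simple s := by
    show dist P (QuotientGroup.mk 1) (QuotientGroup.mk (s : K)) = _
    rw [dist_mk, inv_one, one_mul, hcs,
      wt_of_mem P (n := (⟨(s : K), P.subset s.2⟩ : P.N)) (LieExceptional.BNPairCore.self_mem_C _)]
    rfl
  rw [h1] at h0
  exact Finset.mem_coe.1 (hC.descent_mem (J : Set P.S) _ h0 s (by
    rw [cs.simple_mul_simple_self, cs.length_one, cs.length_simple]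
    exact Nat.one_pos))

variable [Fintype P.S] [DecidableEq P.S]

/-- **no common fixed proper residue** -/
theorem noFix [Finite K] (hA : ∀ s : K, MulAut.conj s ∈ A) {p : ℕ} [hp : Fact p.Prime] {Q : Subgroup K}
    (hQ : IsPGroup p Q) {a : A} (ha : ∀ q ∈ Q, (a : MulAut K) q = q)
    (hno : ∀ Mx : Subgroup K, P.B ≤ Mx → Mx ≠ ⊤ → ∀ g : K, (∀ q ∈ Q, g⁻¹ * q * g ∈ Mx) →
      g⁻¹ * (a : MulAut K) g * H.sel a ∈ Mx → False) :
    stZ (H.PA cs hcs) a ≡ (-1) ^ Fintype.card P.S [ZMOD p] := by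
  let _ := H.mact
  have : Fintype (K ⧸ P.B) := Fintype.ofFinite _
  set Δ := bldg P (Equiv.refl P.S) cs hcs with hΔ
  have hisoA : ∀ (g : A) (x y : K ⧸ P.B), Δ.δ (g • x) (g • y) = Δ.δ x y := fun g x y => H.act_iso cs hcs g x y
  let f : K →* A := (MulAut.conj : K →* MulAut K).codRestrict A hA
  have hf : ∀ (s : K) (x : K ⧸ P.B), f s • x = s • x := fun s x => H.act_conj hA s x
  refine stZ_modEq Δ hisoA (fun J g => H.mem_PA cs hcs J g) (hQ.map f) ?_ ?_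
  · rintro _ ⟨q, hq, rfl⟩
    apply Subtype.ext
    apply MulEquiv.ext
    intro x
    show q * (a : MulAut K) x * q⁻¹ = (a : MulAut K) (q * x * q⁻¹)
    rw [map_mul, map_mul, map_inv, ha q hq]
  · intro J hJ x hx hax
    induction x using QuotientGroup.induction_on with
    | _ g =>
    refine hno (H.PK cs hcs hA J) (H.le_PK cs hcs hA J) (H.PK_ne_top cs hcs hA hJ) g ?_ ?_
    · intro q hq
      have h1 := hx (f q) ⟨q, hq, rfl⟩
      rw [hf] at h1
      rw [mul_assoc, mem_PK_iff]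
      exact h1
    · have h1 : a • (QuotientGroup.mk g : K ⧸ P.B) = QuotientGroup.mk ((a : MulAut K) g * H.sel a) :=
        H.act_mk (H.sel_Sel a) g
      rw [h1] at hax
      rw [mul_assoc, mem_PK_iff]
      exact hax

/-- **the base chamber is fixed** -/
theorem base [Finite K] {r : ℕ} [hr : Fact r.Prime] {U : Subgroup K} (h : Split P r U) (hA : ∀ s : K, MulAut.conj s ∈ A)
    {p : ℕ} [hp : Fact p.Prime] (hpr : p ≠ r) {Q : Subgroup K} (hQ : IsPGroup p Q) (hQB : Q ≤ P.B)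
    (hU : ∀ u ∈ U, (∀ q ∈ Q, q * u = u * q) → u = 1) {a : A} (ha : ∀ q ∈ Q, (a : MulAut K) q = q)
    (hc : Sel P (a : MulAut K) 1) : stZ (H.PA cs hcs) a ≡ 1 [ZMOD p] := by
  let _ := H.mact
  have : Fintype (K ⧸ P.B) := Fintype.ofFinite _
  have hfW : Finite (WP P) := inferInstance
  have hC : Tits.OppRes.Cox cs := inferInstance
  set Δ := bldg P (Equiv.refl P.S) cs hcs with hΔ
  let S : FixBN.Sys Δ K r := FixBN.OfBN.sys (Equiv.refl P.S) cs hcs h
  set c : K ⧸ P.B := QuotientGroup.mk 1 with hcdef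
  have hisoK : ∀ (g : K) (x y : K ⧸ P.B), Δ.δ (g • x) (g • y) = Δ.δ x y := fun g x y => dist_smul P g x y
  have hisoA : ∀ (g : A) (x y : K ⧸ P.B), Δ.δ (g • x) (g • y) = Δ.δ x y := fun g x y => H.act_iso cs hcs g x y
  have hac : H.act a c = c := by
    rw [hcdef, H.act_mk hc, map_one, mul_one]
  have hqc : ∀ q ∈ Q, q • c = c := by
    intro q hq
    show QuotientGroup.mk (q * 1) = QuotientGroup.mk 1
    rw [QuotientGroup.eq, mul_one, mul_one]
    exact inv_mem (hQB hq)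
  have hacomm : ∀ q ∈ Q, ∀ y : K ⧸ P.B, q • H.act a y = H.act a (q • y) := by
    intro q hq y
    induction y using QuotientGroup.induction_on with
    | _ g =>
    rw [H.act_mk (H.sel_Sel a)]
    have e1 : q • (QuotientGroup.mk g : K ⧸ P.B) = QuotientGroup.mk (q * g) := rfl
    rw [e1, H.act_mk (H.sel_Sel a), map_mul, ha q hq]
    show QuotientGroup.mk (q * ((a : MulAut K) g * H.sel a)) = _
    rw [mul_assoc]
  obtain ⟨-, -, -, hval⟩ := H.stA cs hcs h hA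
  rw [hval a hac]
  have hUc : ∀ u : K, u ∈ S.U c ↔ u ∈ U := by
    intro u
    show u ∈ FixBN.OfBN.UU P U (QuotientGroup.mk 1) ↔ u ∈ U
    rw [FixBN.OfBN.mem_UU h]
    simp
  have hopp : ∀ g : K, g • c = c → ∀ y, Δ.Opp c y → Δ.Opp c (g • y) := by
    intro g hg y hy
    have h1 := hisoK g c y
    rw [hg] at h1
    exact h1.trans hy
  obtain ⟨d, hd⟩ : ∃ d, Δ.Opp c d := Tits.Opp.exists_opp Δ c
  -- `Q` on the opposite chambers
  have hpU : ¬ p ∣ Nat.card U := by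
    obtain ⟨k, hk⟩ := IsPGroup.iff_card.1 h.isP
    rw [hk]
    intro h4
    exact hpr ((Nat.prime_dvd_prime_iff_eq hp.out hr.out).1 (hp.out.dvd_of_dvd_pow h4))
  have hcardO : Nat.card {y : K ⧸ P.B // Δ.Opp c y} = Nat.card U := by
    refine (Nat.card_congr (Equiv.ofBijective
      (fun v : U => (⟨(v : K) • d, hopp v (S.fix c v ((hUc _).2 v.2)) d hd⟩ : {y : K ⧸ P.B // Δ.Opp c y})) ⟨?_, ?_⟩)).symm
    · intro v w hvw
      have h1 : (v : K) • d = (w : K) • d := congrArg Subtype.val hvw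
      have h2 : ((w : K)⁻¹ * v) • d = d := by rw [mul_smul, h1, inv_smul_smul]
      have h3 := S.free c d hd _ ((hUc _).2 (mul_mem (inv_mem w.2) v.2)) h2
      exact Subtype.ext (inv_mul_eq_one.1 h3).symm
    · rintro ⟨e, he⟩
      obtain ⟨v, hv, rfl⟩ := S.trans c d e hd he
      exact ⟨⟨v, (hUc _).1 hv⟩, rfl⟩
  let actO : MulAction Q {y : K ⧸ P.B // Δ.Opp c y} :=
    { smul := fun q y => ⟨(q : K) • (y : K ⧸ P.B), hopp q (hqc q q.2) y y.2⟩
      one_smul := fun y => Subtype.ext (one_smul K (y : K ⧸ P.B))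
      mul_smul := fun q q' y => Subtype.ext (mul_smul (q : K) (q' : K) (y : K ⧸ P.B)) }
  obtain ⟨⟨y₀, hy₀⟩, hy₀f⟩ := hQ.nonempty_fixed_point_of_prime_not_dvd_card {y : K ⧸ P.B // Δ.Opp c y}
    (by rw [hcardO]; exact hpU)
  have hy₀q : ∀ q ∈ Q, q • y₀ = y₀ := fun q hq => congrArg Subtype.val (hy₀f ⟨q, hq⟩)
  have huniq : ∀ y, Δ.Opp c y → (∀ q ∈ Q, q • y = y) → y = y₀ := by
    intro y hy hyq
    obtain ⟨u, hu, rfl⟩ := S.trans c y₀ y hy₀ hy
    rw [hUc] at hu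
    have h1 : u = 1 := by
      refine hU u hu fun q hq => ?_
      have h2 : u⁻¹ * (q * u * q⁻¹) ∈ U := mul_mem (inv_mem hu) (h.norm q (hQB hq) u hu)
      have h3 : (u⁻¹ * (q * u * q⁻¹)) • y₀ = y₀ := by
        have h4 : q⁻¹ • y₀ = y₀ := by rw [inv_smul_eq_iff, hy₀q q hq]
        rw [mul_smul, mul_smul, h4, mul_smul, hyq q hq, inv_smul_smul]
      have h5 := S.free c y₀ hy₀ _ ((hUc _).2 h2) h3
      have h6 : q * u * q⁻¹ = u := (inv_mul_eq_one.1 h5).symm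
      calc q * u = q * u * q⁻¹ * q := by group
        _ = u * q := by rw [h6]
    rw [h1, one_smul]
  have hay₀ : H.act a y₀ = y₀ := by
    refine huniq _ ?_ fun q hq => ?_
    · have h1 := hisoA a c y₀
      have h2 : a • c = c := hac
      rw [h2] at h1
      exact h1.trans hy₀
    · rw [hacomm q hq, hy₀q q hq]
  let actY : MulAction Q {y : K ⧸ P.B // Δ.Opp c y ∧ H.act a y = y} :=
    { smul := fun q y => ⟨(q : K) • (y : K ⧸ P.B), hopp q (hqc q q.2) y y.2.1, by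
        rw [← hacomm q q.2, y.2.2]⟩
      one_smul := fun y => Subtype.ext (one_smul K (y : K ⧸ P.B))
      mul_smul := fun q q' y => Subtype.ext (mul_smul (q : K) (q' : K) (y : K ⧸ P.B)) }
  have h1 := hQ.card_modEq_card_fixedPoints {y : K ⧸ P.B // Δ.Opp c y ∧ H.act a y = y}
  have h2 : Nat.card (MulAction.fixedPoints Q {y : K ⧸ P.B // Δ.Opp c y ∧ H.act a y = y}) = 1 := by
    rw [Nat.card_eq_one_iff_unique]
    refine ⟨⟨?_⟩, ⟨⟨⟨y₀, hy₀, hay₀⟩, fun q => Subtype.ext (hy₀q q q.2)⟩⟩⟩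
    rintro ⟨⟨y, hy1, hy2⟩, hyf⟩ ⟨⟨z, hz1, hz2⟩, hzf⟩
    have e1 := huniq y hy1 fun q hq => congrArg Subtype.val (hyf ⟨q, hq⟩)
    have e2 := huniq z hz1 fun q hq => congrArg Subtype.val (hzf ⟨q, hq⟩)
    subst e1 e2
    rfl
  rw [h2] at h1
  exact_mod_cast (Int.natCast_modEq_iff.2 h1)

end Coxeter

end TP

end Cfsg.Agent.H315.CY
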