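import Cfsg.Agent.H315.CY.StRow

/-!
# S4829 : rows from the Steinberg character of a split (B,N)-pair: wrappers (helper315)

* `rowA_of_TP` : the row, if the value of the Steinberg character of `A` modulo `p` is constant;
* `rowA_of_split` : the row, if `p` divides the index of every proper overgroup of `B`;
* `tp_two` : all automorphisms are type preserving if the rank is two and the two minimal parabolic subgroups have
  different orders.
-/

set_option autoImplicit false
set_option linter.unusedSectionVars false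

namespace Cfsg.Agent.H315.CY

open Cfsg Cfsg.Agent Cfsg.Agent.Tits.Core Cfsg.Agent.Tits.Core.Bldg Cfsg.Agent.Tits.OfBN Cfsg.Agent.FixBN
open Cfsg.Agent.LieExceptional.BNPairCore Cfsg.Agent.H978.BR Cfsg.Agent.H770.CY

universe u

variable {K : Type u} [Group K]

/-- every automorphism is type preserving -/
def TPall (P : Cfsg.BNPair K) : Prop :=
  ∀ a : MulAut K, ∃ s : K, ∀ M : Subgroup K, P.B ≤ M → ∀ x, s⁻¹ * a x * s ∈ M ↔ x ∈ M

theorem card_U_ne_one [Finite K] {P : Cfsg.BNPair K} {r : ℕ} {U : Subgroup K} (h : Split P r U) (hne : P.S.Nonempty) :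
    Nat.card U ≠ 1 := by
  intro h8
  obtain ⟨s, hs⟩ := hne
  obtain ⟨V, hV⟩ := h.node s hs
  obtain ⟨u, hu, huV⟩ := hV.ne
  have h9 := (Subgroup.card_eq_one.1 h8)
  rw [h9] at hu
  rw [Subgroup.mem_bot.1 hu] at huV
  exact huV (one_mem V)

/-- **The row from the Steinberg character** -/
theorem rowA_of_TP [Fintype K] {P : Cfsg.BNPair K} {r : ℕ} [hr : Fact r.Prime] {U : Subgroup K} (h : Split P r U)
    (hne : P.S.Nonempty) (hTP : TPall P) {p : ℕ} [hp : Fact p.Prime] (hpr : p ≠ r) (e : ℤ)
    (hv : ∀ (_ : ((P.B ⊓ P.N).subgroupOf P.N).Normal) (M : CoxeterMatrix P.S) (cs : CoxeterSystem M (WP P))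
      (hcs : ∀ i, cs.simple i = QuotientGroup.mk (⟨((Equiv.refl P.S i : P.S) : K), P.subset (Equiv.refl P.S i).2⟩ : P.N))
      (_ : Fintype P.S) (_ : DecidableEq P.S) (A : Subgroup (MulAut K)) (_ : ∀ s : K, MulAut.conj s ∈ A) (H : TP P A)
      (a : A), (∃ Q : Sylow p K, ∀ x ∈ Q, (a : MulAut K) x = x) → stZ (H.PA cs hcs) a ≡ e [ZMOD p]) : RowA p K := by
  classical
  intro A hA M' hM'
  have hN : ((P.B ⊓ P.N).subgroupOf P.N).Normal := normal_subgroupOf P
  obtain ⟨M, cs, hcs⟩ := S0320.result P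
  have : Fintype P.S := Fintype.ofFinite _
  have H : TP P A := fun a _ => hTP a
  obtain ⟨h1, h2, h3, -⟩ := H.stA cs hcs h hA.1
  have hpU : ¬ p ∣ Nat.card U := by
    obtain ⟨k, hk⟩ := IsPGroup.iff_card.1 h.isP
    rw [hk]
    intro h4
    exact hpr ((Nat.prime_dvd_prime_iff_eq hp.out hr.out).1 (hp.out.dvd_of_dvd_pow h4))
  refine ⟨fun a => ((stZ (H.PA cs hcs) a : ℤ) : ℂ), H116.CY.witA_of_int hM' hA.1 _ h1 h2 h3 (card_U_ne_one h hne) hpU ?_⟩
  intro a _ hQ
  have e1 := hv hN M cs hcs inferInstance inferInstance A hA.1 H a hQ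
  obtain ⟨Q, -⟩ := hQ
  have e2 := hv hN M cs hcs inferInstance inferInstance A hA.1 H 1 ⟨Q, fun x _ => rfl⟩
  exact e1.trans e2.symm

/-- **The elliptic case**: `p` divides the index of every proper overgroup of `B` -/
theorem rowA_of_split [Fintype K] {P : Cfsg.BNPair K} {r : ℕ} [hr : Fact r.Prime] {U : Subgroup K} (h : Split P r U)
    (hne : P.S.Nonempty) (hTP : TPall P) {p : ℕ} [hp : Fact p.Prime] (hpr : p ≠ r)
    (hJ : ∀ M : Subgroup K, P.B ≤ M → M ≠ ⊤ → p ∣ M.index) : RowA p K := by
  classical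
  have : Fintype P.S := Fintype.ofFinite _
  refine rowA_of_TP h hne hTP hpr ((-1) ^ Fintype.card P.S) ?_
  intro hN M cs hcs _ _ A hA H a hQ
  obtain ⟨Q, hQ⟩ := hQ
  have h1 := H.noFix cs hcs hA Q.isPGroup' (a := a) (fun q hq => hQ q hq) ?_
  · convert h1
  · intro Mx hB hM g hg _
    have h2 : (Q : Subgroup K).map (MulAut.conj g⁻¹).toMonoidHom ≤ Mx := by
      rintro _ ⟨q, hq, rfl⟩
      have h3 := hg q hq
      show g⁻¹ * q * g⁻¹⁻¹ ∈ Mx
      rwa [inv_inv]
    have h3 : Nat.card ((Q : Subgroup K).map (MulAut.conj g⁻¹).toMonoidHom) = Nat.card (Q : Subgroup K) :=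
      (Nat.card_congr ((Q : Subgroup K).equivMapOfInjective _ (MulAut.conj g⁻¹).injective).toEquiv).symm
    have h4 : Nat.card (Q : Subgroup K) ∣ Nat.card Mx := by
      rw [← h3]
      exact Subgroup.card_dvd_of_le h2
    have h5 := hJ Mx hB hM
    have h6 := Subgroup.card_mul_index Mx
    have h7 := Subgroup.card_mul_index (Q : Subgroup K)
    have h8 : ¬ p ∣ (Q : Subgroup K).index := Q.not_dvd_index
    obtain ⟨k, hk⟩ := h4
    apply h8
    have h9 : (Q : Subgroup K).index = k * Mx.index := by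
      have h10 : Nat.card (Q : Subgroup K) * (Q : Subgroup K).index = Nat.card (Q : Subgroup K) * (k * Mx.index) := by
        rw [h7, ← h6, hk]; ring
      exact Nat.eq_of_mul_eq_mul_left Nat.card_pos h10
    rw [h9]
    exact Dvd.dvd.mul_left h5 _

/-- the Borel subgroup under an automorphism -/
theorem exists_Sel [Finite K] {P : Cfsg.BNPair K} {r : ℕ} [hr : Fact r.Prime] {U : Subgroup K} (h : Split P r U)
    (α : MulAut K) : ∃ s : K, Sel P α s := by
  obtain ⟨I, _, _, Q', -, -, -, -, -, hsyl⟩ := exists_st h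
  have hnorm := h.normalizer_eq
  obtain ⟨R⟩ := (inferInstance : Nonempty (Sylow r K))
  obtain ⟨x, hx⟩ := hsyl R
  obtain ⟨y, hy⟩ := hsyl (α • R)
  have hα : ((((α : MulAut K) • R : Sylow r K)) : Subgroup K) = (R : Subgroup K).map α.toMonoidHom := rfl
  rw [hα, hx] at hy
  have hz : U.map α.toMonoidHom = U.map (MulAut.conj ((α x)⁻¹ * y)).toMonoidHom := by
    have e1 : (MulAut.conj ((α x)⁻¹ * y)).toMonoidHom =
        (MulAut.conj (α x)⁻¹).toMonoidHom.comp (MulAut.conj y).toMonoidHom := by
      rw [map_mul]; rfl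
    rw [e1, ← Subgroup.map_map, ← hy, Subgroup.map_map, Subgroup.map_map]
    congr 1
    ext t
    show α t = (α x)⁻¹ * α (x * t * x⁻¹) * ((α x)⁻¹)⁻¹
    rw [map_mul, map_mul, map_inv]
    group
  set s := (α x)⁻¹ * y with hs
  refine ⟨s, fun g => ?_⟩
  -- membership in `U`
  have hU : ∀ t, s⁻¹ * α t * s ∈ U ↔ t ∈ U := by
    intro t
    constructor
    · intro ht
      have h1 : α t ∈ U.map (MulAut.conj s).toMonoidHom := ⟨_, ht, by
        show s * (s⁻¹ * α t * s) * s⁻¹ = α t
        group⟩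
      rw [← hz] at h1
      obtain ⟨t', ht', e⟩ := h1
      have : t' = t := α.injective e
      rwa [← this]
    · intro ht
      have h1 : α t ∈ U.map α.toMonoidHom := ⟨t, ht, rfl⟩
      rw [hz] at h1
      obtain ⟨t', ht', e⟩ := h1
      have e' : s * t' * s⁻¹ = α t := e
      rw [← e']
      have : s⁻¹ * (s * t' * s⁻¹) * s = t' := by group
      rwa [this]
  rw [← hnorm, Subgroup.mem_normalizer_iff, Subgroup.mem_normalizer_iff]
  constructor
  · intro h1 t
    have h2 := h1 (s⁻¹ * α t * s)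
    rw [hU] at h2
    have e : s⁻¹ * α g * s * (s⁻¹ * α t * s) * (s⁻¹ * α g * s)⁻¹ = s⁻¹ * α (g * t * g⁻¹) * s := by
      rw [map_mul, map_mul, map_inv]; group
    rw [e, hU] at h2
    exact h2
  · intro h1 t
    obtain ⟨t0, ht0⟩ := α.surjective (s * t * s⁻¹)
    have h2 := h1 t0
    rw [← hU t0, ← hU (g * t0 * g⁻¹), map_mul, map_mul, map_inv, ht0] at h2
    have e1 : s⁻¹ * (s * t * s⁻¹) * s = t := by group
    have e2 : s⁻¹ * (α g * (s * t * s⁻¹) * (α g)⁻¹) * s = s⁻¹ * α g * s * t * (s⁻¹ * α g * s)⁻¹ := by group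
    rw [e1, e2] at h2
    exact h2

/-- **all automorphisms are type preserving** in rank two with different panel sizes -/
theorem tp_two [Finite K] {P : Cfsg.BNPair K} {r : ℕ} [hr : Fact r.Prime] {U : Subgroup K} (h : Split P r U) {s t : K}
    (hS : P.S = {s, t}) (hne : Nat.card (P.parabolic {s}) ≠ Nat.card (P.parabolic {t})) : TPall P := by
  intro a
  obtain ⟨z, hz⟩ := exists_Sel h a
  refine ⟨z, ?_⟩
  -- overgroups with the same order are equal
  have key : ∀ M M' : Subgroup K, P.B ≤ M → P.B ≤ M' → Nat.card M = Nat.card M' → M = M' := by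
    have hle : ∀ M M' : Subgroup K, P.B ≤ M → P.B ≤ M' → (∀ x ∈ P.S, x ∈ M → x ∈ M') → Nat.card M = Nat.card M' →
        M = M' := by
      intro M M' hM hM' hx hc
      have h1 : M ≤ M' := by
        rw [eq_parabolic hM]
        refine sup_le hM' ((Subgroup.closure_le _).2 ?_)
        rintro x ⟨hxS, hxM⟩
        exact hx x hxS hxM
      exact Subgroup.eq_of_le_of_card_ge h1 hc.ge
    have hpar : ∀ M : Subgroup K, P.B ≤ M → s ∈ M → t ∉ M → M = P.parabolic {s} := by
      intro M hM h1 h2
      rw [eq_parabolic hM]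
      congr 1
      rw [hS]
      ext x
      constructor
      · rintro ⟨rfl | rfl, hx⟩
        · rfl
        · exact (h2 hx).elim
      · rintro rfl
        exact ⟨Or.inl rfl, h1⟩
    have hpar' : ∀ M : Subgroup K, P.B ≤ M → s ∉ M → t ∈ M → M = P.parabolic {t} := by
      intro M hM h1 h2
      rw [eq_parabolic hM]
      congr 1
      rw [hS]
      ext x
      constructor
      · rintro ⟨rfl | rfl, hx⟩
        · exact (h1 hx).elim
        · rfl
      · rintro rfl
        exact ⟨Or.inr rfl, h2⟩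
    intro M M' hM hM' hc
    by_cases h1 : s ∈ M → s ∈ M'
    · by_cases h2 : t ∈ M → t ∈ M'
      · refine hle M M' hM hM' ?_ hc
        intro x hx
        rw [hS] at hx
        rcases hx with rfl | rfl
        · exact h1
        · exact h2
      · push Not at h2
        by_cases h3 : s ∈ M' → s ∈ M
        · refine (hle M' M hM' hM ?_ hc.symm).symm
          intro x hx
          rw [hS] at hx
          rcases hx with rfl | rfl
          · exact h3
          · exact fun h => (h2.2 h).elim
        · push Not at h3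
          exfalso
          have e1 := hpar' M hM h3.2 h2.1
          have e2 := hpar M' hM' h3.1 h2.2
          rw [e1, e2] at hc
          exact hne hc.symm
    · push Not at h1
      by_cases h3 : t ∈ M' → t ∈ M
      · refine (hle M' M hM' hM ?_ hc.symm).symm
        intro x hx
        rw [hS] at hx
        rcases hx with rfl | rfl
        · exact fun h => (h1.2 h).elim
        · exact h3
      · push Not at h3
        exfalso
        have e1 := hpar M hM h1.1 h3.2
        have e2 := hpar' M' hM' h1.2 h3.1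
        rw [e1, e2] at hc
        exact hne hc
  intro M hM x
  let β : MulAut K := MulAut.conj z⁻¹ * a
  have hβ : ∀ x, β x = z⁻¹ * a x * z := fun x => by
    show z⁻¹ * a x * z⁻¹⁻¹ = _
    rw [inv_inv]
  have h1 : P.B ≤ M.map β.toMonoidHom := by
    intro b hb
    obtain ⟨y, rfl⟩ := β.surjective b
    rw [hβ] at hb
    exact ⟨y, hM ((hz y).1 hb), rfl⟩
  have h2 := key M (M.map β.toMonoidHom) hM h1
    (Nat.card_congr (M.equivMapOfInjective β.toMonoidHom β.injective).toEquiv)
  rw [← hβ]
  constructor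
  · intro hx
    rw [h2] at hx
    obtain ⟨y, hy, e⟩ := hx
    have : y = x := β.injective e
    rwa [← this]
  · intro hx
    rw [h2]
    exact ⟨x, hx, rfl⟩

end Cfsg.Agent.H315.CY
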