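import Cfsg.Agent.H315.CY.TwFPair
import Cfsg.Agent.H315.CY.StWrap

/-!
# S4829: the row `²F₄(q)` (helper315)

The Steinberg character of `A` is a witness for every odd prime.
-/

set_option autoImplicit false
set_option linter.unusedSectionVars false

open Cfsg Cfsg.Lie

namespace Cfsg.Agent.H315.CY

open Cfsg.Agent.KFacts.TwF4 Cfsg.Agent.KFacts.TwF4.AutTau
open Cfsg.Agent.SplitTwo Cfsg.Agent.SplitTwo.ZS Cfsg.Agent.TitsThree.RankTwoZ Cfsg.Agent.TitsThree.RankTwoRGD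
open Cfsg.Agent.SplitTwo.RootSysZ Cfsg.Agent.H978.BR

section full

variable {F : Type*} [Field F] {σ : F →+* F} {G : Type*} [Group G] (S : Full σ G)

theorem TQ_conj {p : ℕ} {n : G} (hn : ∀ t ∈ S.T, n * t * n⁻¹ ∈ S.T) {q : G} (hq : q ∈ TQ S p) : n * q * n⁻¹ ∈ TQ S p := by
  obtain ⟨c, d, hc, hd, rfl⟩ := hq
  have h1 : S.h c d ∈ S.T := S.mem_T.2 ⟨c, d, rfl⟩
  obtain ⟨c', d', h2⟩ := S.mem_T.1 (hn _ h1)
  have h3 : (n * S.h c d * n⁻¹) ^ p = 1 := by
    rw [conj_pow, h_pow, hc, hd, S.h_one, mul_one, mul_inv_cancel]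
  rw [← h2, h_pow, ← S.h_one] at h3
  obtain ⟨h4, h5⟩ := S.h_inj _ _ _ _ h3
  exact ⟨c', d', h4, h5, h2⟩

theorem dih_T {w : G} (hw : S.IsDihE w) {t : G} (ht : t ∈ S.T) : w * t * w⁻¹ ∈ S.T := by
  rw [S.T_iff] at ht ⊢
  obtain ⟨b, hw | hw⟩ := hw
  · have hi := hw.inv (g := fun k => -((2 * b : ℤ) : ZMod (2 * 8)) + k) (fun k => by ring)
    refine ((hw.mul ht).mul hi).congr fun k => ?_
    show ((2 * b : ℤ) : ZMod (2 * 8)) + (-((2 * b : ℤ) : ZMod (2 * 8)) + k) = k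
    ring
  · have hi := hw.inv (g := fun k => ((2 * b : ℤ) : ZMod (2 * 8)) - k) (fun k => by ring)
    refine ((hw.mul ht).mul hi).congr fun k => ?_
    show ((2 * b : ℤ) : ZMod (2 * 8)) - (((2 * b : ℤ) : ZMod (2 * 8)) - k) = k
    ring

theorem dih_T' {w : G} (hw : S.IsDihE w) {t : G} (ht : t ∈ S.T) : w⁻¹ * t * w ∈ S.T := by
  rw [S.T_iff] at ht ⊢
  obtain ⟨b, hw | hw⟩ := hw
  · have hi := hw.inv (g := fun k => -((2 * b : ℤ) : ZMod (2 * 8)) + k) (fun k => by ring)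
    refine ((hi.mul ht).mul hw).congr fun k => ?_
    show -((2 * b : ℤ) : ZMod (2 * 8)) + (((2 * b : ℤ) : ZMod (2 * 8)) + k) = k
    ring
  · have hi := hw.inv (g := fun k => ((2 * b : ℤ) : ZMod (2 * 8)) - k) (fun k => by ring)
    refine ((hi.mul ht).mul hw).congr fun k => ?_
    show ((2 * b : ℤ) : ZMod (2 * 8)) - (((2 * b : ℤ) : ZMod (2 * 8)) - k) = k
    ring

theorem n1_dih : S.IsDihE S.n1 := ⟨5, Or.inr (S.n1_maps.congr fun k => rfl)⟩
theorem n2_dih : S.IsDihE S.n2 := ⟨4, Or.inr (S.n2_maps.congr fun k => rfl)⟩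

variable [Finite F] [Finite G]

/-- the overgroup `U T` -/
def UT : Subgroup G where
  carrier := {g | ∃ u ∈ J S.XZ 1 8, ∃ t ∈ S.T, g = u * t}
  one_mem' := ⟨1, one_mem _, 1, one_mem _, by group⟩
  mul_mem' := by
    rintro _ _ ⟨v, hv, s, hs, rfl⟩ ⟨v', hv', s', hs', rfl⟩
    exact ⟨v * (s * v' * s⁻¹), mul_mem hv (S.T_conj_J hs hv'), s * s', mul_mem hs hs', by group⟩
  inv_mem' := by
    rintro _ ⟨v, hv, s, hs, rfl⟩
    refine ⟨s⁻¹ * v⁻¹ * s, ?_, s⁻¹, inv_mem hs, by group⟩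
    have h1 := S.T_conj_J (inv_mem hs) (inv_mem hv)
    rwa [inv_inv] at h1

theorem U_le_UT : J S.XZ 1 8 ≤ UT S := fun v hv => ⟨v, hv, 1, one_mem _, by group⟩
theorem T_le_UT : S.T ≤ UT S := fun t ht => ⟨1, one_mem _, t, ht, by group⟩

theorem mem_UT_iff (hF : ∃ c : Fˣ, c ≠ 1) (hR : S.R.p = 2) {g : G} :
    g ∈ UT S ↔ ∀ x, x ∈ J S.XZ 1 8 ↔ g * x * g⁻¹ ∈ J S.XZ 1 8 := by
  constructor
  · rintro ⟨u, hu, t, ht, rfl⟩ x
    constructor
    · intro hx
      have e : u * t * x * (u * t)⁻¹ = u * (t * x * t⁻¹) * u⁻¹ := by group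
      rw [e]
      exact mul_mem (mul_mem hu (S.T_conj_J ht hx)) (inv_mem hu)
    · intro hx
      have h1 : t * x * t⁻¹ ∈ J S.XZ 1 8 := by
        have e : t * x * t⁻¹ = u⁻¹ * (u * t * x * (u * t)⁻¹) * u := by group
        rw [e]
        exact mul_mem (mul_mem (inv_mem hu) hx) hu
      have h2 := S.T_conj_J (inv_mem ht) h1
      have e : t⁻¹ * (t * x * t⁻¹) * t⁻¹⁻¹ = x := by group
      rwa [e] at h2
  · intro h
    exact SylU.norm_U S hF hR h

variable {p : ℕ} [hpp : Fact p.Prime] {c : Fˣ}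

/-- a chamber fixed by `Q` lies in the apartment -/
theorem exists_dih (hR : S.R.p = 2) (hp2 : p ≠ 2) (hc : c ^ p = 1) (hc1 : c ≠ 1) {g : G}
    (hg : ∀ q ∈ TQ S p, g⁻¹ * q * g ∈ UT S) : ∃ w, (∀ t ∈ S.T, w * t * w⁻¹ ∈ S.T) ∧ (∀ t ∈ S.T, w⁻¹ * t * w ∈ S.T) ∧
      w⁻¹ * g ∈ UT S := by
  have : Fact (Nat.Prime 2) := ⟨Nat.prime_two⟩
  obtain ⟨b, hb, t, ht, w, hw, b', hb', e⟩ := S.bruhatE g
  have h1 : ∀ s ∈ S.T, (t * w) * s * (t * w)⁻¹ ∈ S.T := by
    intro s hs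
    have e1 : (t * w) * s * (t * w)⁻¹ = t * (w * s * w⁻¹) * t⁻¹ := by group
    rw [e1]
    exact mul_mem (mul_mem ht (dih_T S hw hs)) (inv_mem ht)
  have h2 : ∀ s ∈ S.T, (t * w)⁻¹ * s * (t * w) ∈ S.T := by
    intro s hs
    have e1 : (t * w)⁻¹ * s * (t * w) = w⁻¹ * (t⁻¹ * s * t) * w := by group
    rw [e1]
    exact dih_T' S hw (mul_mem (mul_mem (inv_mem ht) hs) ht)
  refine ⟨t * w, h1, h2, ?_⟩
  have h3 := fix_core (r := 2) (U := J S.XZ 1 8) (T := S.T) (B := UT S)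
    (Cfsg.Agent.KFacts.TwF4.Perf.two_J S hR (by norm_num)) (U_le_UT S) (T_le_UT S)
    (fun t ht u hu => S.T_conj_J ht hu) hp2 (TQ_p S p) (TQ_le S p) (fun u hu h => CU S hc hc1 hu h) h2 hb (by
      intro q hq
      have h4 := hg q hq
      have e2 : (b * (t * w))⁻¹ * q * (b * (t * w)) = b' * (g⁻¹ * q * g) * b'⁻¹ := by rw [e]; group
      rw [e2]
      exact mul_mem (mul_mem (U_le_UT S hb') h4) (inv_mem (U_le_UT S hb')))
  have e3 : (t * w)⁻¹ * g = ((t * w)⁻¹ * b * (t * w)) * b' := by rw [e]; group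
  rw [e3]
  exact mul_mem h3 (U_le_UT S hb')

/-- an element of `U T` normalizing `T` lies in `T` -/
theorem mem_T_of_norm (hc : c ^ p = 1) (hc1 : c ≠ 1) {b : G} (hb : b ∈ UT S) (hn : ∀ t ∈ S.T, b * t * b⁻¹ ∈ S.T) :
    b ∈ S.T := by
  obtain ⟨u, hu, t, ht, rfl⟩ := hb
  have h1 : u = 1 := by
    refine CU S hc hc1 hu fun q hq => ?_
    have hqT := TQ_le S p hq
    have h2 : u * q * u⁻¹ ∈ S.T := by
      have h3 := hn _ (mul_mem (mul_mem (inv_mem ht) hqT) ht)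
      have e : u * t * (t⁻¹ * q * t) * (u * t)⁻¹ = u * q * u⁻¹ := by group
      rwa [e] at h3
    have h3 : u * (q * u⁻¹ * q⁻¹) ∈ J S.XZ 1 8 := mul_mem hu (S.T_conj_J hqT (inv_mem hu))
    have h4 : u * (q * u⁻¹ * q⁻¹) ∈ S.T := by
      have e : u * (q * u⁻¹ * q⁻¹) = (u * q * u⁻¹) * q⁻¹ := by group
      rw [e]; exact mul_mem h2 (inv_mem hqT)
    have h5 := S.U_inf_T h4 h3
    have h6 : u * q * u⁻¹ = q := by
      have e : u * (q * u⁻¹ * q⁻¹) = (u * q * u⁻¹) * q⁻¹ := by group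
      rw [e] at h5
      exact mul_inv_eq_one.1 h5
    calc q * u = (u * q * u⁻¹) * u := by rw [h6]
      _ = u * q := by group
  rw [h1, one_mul]
  exact ht

/-- a subgroup mapped into itself by an automorphism -/
theorem mem_iff_of_le {α : MulAut G} {X : Subgroup G} (h : ∀ x ∈ X, α x ∈ X) (x : G) : α x ∈ X ↔ x ∈ X := by
  refine ⟨fun hx => ?_, h x⟩
  have hm : X.map α.toMonoidHom = X := by
    refine Subgroup.eq_of_le_of_card_ge ?_ (le_of_eq ?_)
    · rintro _ ⟨y, hy, rfl⟩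
      exact h y hy
    · exact Nat.card_congr (X.equivMapOfInjective α.toMonoidHom α.injective).toEquiv
  rw [← hm] at hx
  obtain ⟨y, hy, hyx⟩ := hx
  have : y = x := α.injective hyx
  rwa [← this]

/-- an automorphism centralizing `Q` does not exchange the two fixed chambers of a panel -/
theorem panel {P : Cfsg.BNPair G} (hPB : P.B = UT S) (hF : ∃ c : Fˣ, c ≠ 1) (hR : S.R.p = 2) (hp2 : p ≠ 2) (hc : c ^ p = 1)
    (hc1 : c ≠ 1) {a : MulAut G} (ha : ∀ q ∈ TQ S p, a q = q) {s : G} (hs : s = S.n1 ∨ s = S.n2) {k : G}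
    (hk : Sel P a k) {u b : G} (hu : u ∈ J S.XZ 1 8) (hb : b ∈ UT S) (hks : k = u * s * b) : False := by
  have : Fact (Nat.Prime 2) := ⟨Nat.prime_two⟩
  obtain ⟨k', τ, ho, he⟩ := AutNorm.aut_form S hF hR a
  set β : MulAut G := MulAut.conj k'⁻¹ * a with hβdef
  have hβ : ∀ x, β x = k'⁻¹ * a x * k' := fun x => by
    show k'⁻¹ * a x * k'⁻¹⁻¹ = _
    rw [inv_inv]
  have hax : ∀ x, a x = k' * β x * k'⁻¹ := fun x => by rw [hβ]; group
  have hX0 : ∀ j : ℤ, ∀ x ∈ S.XZ j, β x ∈ S.XZ j := by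
    intro j x hx
    obtain ⟨m, rfl | rfl⟩ := Int.even_or_odd' j
    · obtain ⟨p, u, rfl⟩ := (S.mem_XZ_even m x).1 hx
      rw [S.mem_XZ_even]
      refine ⟨τ p, τ u, ?_⟩
      rw [hβ, he]; group
    · obtain ⟨t, rfl⟩ := (S.mem_XZ_odd m x).1 hx
      rw [S.mem_XZ_odd]
      refine ⟨τ t, ?_⟩
      rw [hβ, ho]; group
  have hX : ∀ j : ℤ, ∀ x, β x ∈ S.XZ j ↔ x ∈ S.XZ j := fun j x => mem_iff_of_le (hX0 j) x
  have hU : ∀ x, β x ∈ J S.XZ 1 8 ↔ x ∈ J S.XZ 1 8 := by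
    refine mem_iff_of_le ?_
    have h1 : J S.XZ 1 8 ≤ (J S.XZ 1 8).comap β.toMonoidHom :=
      J_le fun j h1 h2 y hy => mem_J (hX0 j y hy) h1 h2
    exact fun x hx => h1 hx
  have hUT : ∀ x, β x ∈ UT S ↔ x ∈ UT S := by
    intro x
    rw [mem_UT_iff S hF hR, mem_UT_iff S hF hR]
    constructor
    · intro h y
      have h1 := h (β y)
      rw [hU, ← map_mul, ← map_inv, ← map_mul, hU] at h1
      exact h1
    · intro h y
      obtain ⟨z, rfl⟩ := β.surjective y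
      rw [hU, ← map_mul, ← map_inv, ← map_mul, hU]
      exact h z
  have hk' : Sel P a k' := by
    intro x
    rw [← hβ, hPB]
    exact hUT x
  have hkk := hk.unique hk'
  rw [hPB] at hkk
  -- the torus
  have hT0 : ∀ t ∈ S.T, a t ∈ S.T := by
    intro t ht
    apply cent_TQ S hR hp2 hc hc1
    rw [Subgroup.mem_centralizer_iff]
    intro q hq
    have h1 : q * t = t * q := S.T_comm (TQ_le S p hq) ht
    calc q * a t = a q * a t := by rw [ha q hq]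
      _ = a (t * q) := by rw [← map_mul, h1]
      _ = a t * q := by rw [map_mul, ha q hq]
  have hβT : ∀ t, β t ∈ S.T ↔ t ∈ S.T := by
    refine mem_iff_of_le ?_
    intro t ht
    have hint : ∀ (j : ℤ) (x : G), x ∈ S.XZ j ↔ β t * x * (β t)⁻¹ ∈ S.XZ j := by
      intro j x
      obtain ⟨y, rfl⟩ := β.surjective x
      rw [hX, ← map_mul, ← map_inv, ← map_mul, hX]
      have h1 := S.T_iff.1 ht (j : ZMod (2 * 8)) y
      exact h1.symm
    rw [S.T_iff]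
    intro j x
    have hj : ((j.val : ℤ) : ZMod (2 * 8)) = j := by rw [Int.cast_natCast]; exact ZMod.natCast_zmod_val _
    have h1 := hint (j.val : ℤ) x
    have h8 : ∀ y, y ∈ S.XZ (j.val : ℤ) ↔ y ∈ S.R.X j := by intro y; show y ∈ S.R.X _ ↔ _; rw [hj]
    rw [h8, h8] at h1
    exact h1.symm
  have hkT : ∀ t ∈ S.T, k' * t * k'⁻¹ ∈ S.T := by
    intro t ht
    obtain ⟨t0, rfl⟩ := β.surjective t
    rw [← hax]
    exact hT0 _ ((hβT _).1 ht)
  have hkT' : ∀ t, k' * t * k'⁻¹ ∈ S.T ↔ t ∈ S.T := fun t =>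
    mem_iff_of_le (α := MulAut.conj k') (fun t ht => hkT t ht) t
  -- `k' = s b₃`
  obtain ⟨b', hb', hkb⟩ : ∃ b' ∈ UT S, k' = u * s * b' :=
    ⟨b * (k⁻¹ * k'), mul_mem hb hkk, by rw [hks]; group⟩
  have hsd : S.IsDihE s := by
    rcases hs with rfl | rfl
    · exact n1_dih S
    · exact n2_dih S
  have h3 := fix_core (r := 2) (U := J S.XZ 1 8) (T := S.T) (B := UT S)
    (Cfsg.Agent.KFacts.TwF4.Perf.two_J S hR (by norm_num)) (U_le_UT S) (T_le_UT S)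
    (fun t ht u hu => S.T_conj_J ht hu) hp2 (TQ_p S p) (TQ_le S p) (fun u hu h => CU S hc hc1 hu h)
    (n₀ := s) (fun t ht => dih_T' S hsd ht) hu (by
      intro q hq
      have h4 : k'⁻¹ * q * k' ∈ S.T := by
        rw [← hkT']
        have e : k' * (k'⁻¹ * q * k') * k'⁻¹ = q := by group
        rw [e]; exact TQ_le S p hq
      have e2 : (u * s)⁻¹ * q * (u * s) = b' * (k'⁻¹ * q * k') * b'⁻¹ := by rw [hkb]; group
      rw [e2]
      exact mul_mem (mul_mem hb' (T_le_UT S h4)) (inv_mem hb'))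
  set b₃ := s⁻¹ * u * s * b' with hb₃
  have hb₃U : b₃ ∈ UT S := mul_mem h3 hb'
  have hkb₃ : k' = s * b₃ := by rw [hkb, hb₃]; group
  have hb₃T : b₃ ∈ S.T := by
    refine mem_T_of_norm S hc hc1 hb₃U fun t ht => ?_
    have h4 := dih_T' S hsd (hkT t ht)
    have e : s⁻¹ * (k' * t * k'⁻¹) * s = b₃ * t * b₃⁻¹ := by rw [hkb₃]; group
    rwa [e] at h4
  have hXs : ∀ (j : ℤ) (x : G), x ∈ S.XZ j → ∃ y ∈ S.XZ j, a x = s * y * s⁻¹ := by
    intro j x hx
    refine ⟨b₃ * β x * b₃⁻¹, S.T_conj hb₃T j (hX0 j x hx), ?_⟩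
    rw [hax, hkb₃]; group
  have fin : ∀ (j i : ℤ) (t x : G), ¬ (8 : ℤ) ∣ i - j → t ∈ S.Tk j → t ≠ 1 → t ∈ TQ S p → x ∈ S.XZ j → x ≠ 1 →
      a x ∈ S.XZ i → False := by
    intro j i t x hji ht ht1 htQ hx hx1 hax'
    have h1 : t * x = x * t := Full.Tk_comm S ht hx
    have h2 := S.fpf hji ht ht1 hax' (by
      calc t * a x * t⁻¹ = a (t * x) * t⁻¹ := by rw [map_mul, ha t htQ]
        _ = a x * (t * t⁻¹) := by rw [h1, map_mul, ha t htQ, mul_assoc]
        _ = a x := by rw [mul_inv_cancel, mul_one])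
    exact hx1 ((MulEquiv.map_eq_one_iff a).1 h2)
  rcases hs with rfl | rfl
  · have hx : S.e 4 1 0 ∈ S.XZ 8 := S.mX8 1 0
    obtain ⟨y, hy, hay⟩ := hXs 8 _ hx
    refine fin 8 2 (S.h 1 c) (S.e 4 1 0) (by norm_num) (t0_T8 S) (h_ne S (Or.inr hc1)) (t0_mem S hc) hx
      (fun h => one_ne_zero (S.e_eq_one h).1) ?_
    rw [hay]
    exact S.n1_refl.mem' hy (by norm_num)
  · have hx : S.o 0 1 ∈ S.XZ 1 := S.mX1 1
    obtain ⟨y, hy, hay⟩ := hXs 1 _ hx
    refine fin 1 7 (S.h c c⁻¹) (S.o 0 1) (by norm_num) (t1_T1 S) (h_ne S (Or.inl hc1)) (t1_mem S hc) hx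
      (fun h => one_ne_zero (S.o_eq_one h)) ?_
    rw [hay]
    exact S.n2_refl.mem' hy (by norm_num)

open Cfsg.Agent.LieExceptional.BNPairCore Cfsg.Agent.Tits.OfBN in
/-- **the torus case** -/
theorem tor {P : Cfsg.BNPair G} (hPB : P.B = UT S) (hPS : P.S = {S.n1, S.n2}) (h : FixBN.Split P 2 (J S.XZ 1 8))
    (hF : ∃ c : Fˣ, c ≠ 1) (hR : S.R.p = 2) (hp2 : p ≠ 2) (hc : c ^ p = 1) (hc1 : c ≠ 1)
    (hidx : ∀ s ∈ P.S, ¬ p ∣ P.B.relIndex (P.parabolic {s}))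
    [hN : ((P.B ⊓ P.N).subgroupOf P.N).Normal] {M : CoxeterMatrix P.S} (cs : CoxeterSystem M (WP P))
    (hcs : ∀ i, cs.simple i = QuotientGroup.mk (⟨((Equiv.refl P.S i : P.S) : G), P.subset (Equiv.refl P.S i).2⟩ : P.N))
    [Fintype P.S] [DecidableEq P.S] (hcard : Fintype.card P.S = 2) {A : Subgroup (MulAut G)} (H : TP P A)
    (hA : ∀ s : G, MulAut.conj s ∈ A) {a : A} (ha : ∀ q ∈ TQ S p, (a : MulAut G) q = q) :
    stZ (H.PA cs hcs) a ≡ 1 [ZMOD p] := by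
  have : Fact (Nat.Prime 2) := ⟨Nat.prime_two⟩
  by_cases hex : ∃ s ∈ P.S, ∃ g : G, (∀ q ∈ TQ S p, g⁻¹ * q * g ∈ P.parabolic {s}) ∧
      g⁻¹ * (a : MulAut G) g * H.sel a ∈ P.parabolic {s}
  · obtain ⟨s, hs, g, hg1, hg2⟩ := hex
    have hs' : s = S.n1 ∨ s = S.n2 := by
      rw [hPS] at hs
      exact hs
    set Mx := P.parabolic {s} with hMx
    have hBM : P.B ≤ Mx := le_sup_left
    -- a fixed chamber in the panel
    obtain ⟨m, hm, hmq⟩ : ∃ m ∈ Mx, ∀ q ∈ TQ S p, m⁻¹ * (g⁻¹ * q * g) * m ∈ P.B := by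
      let Q' : Subgroup Mx := ((TQ S p).map (MulAut.conj g⁻¹).toMonoidHom).subgroupOf Mx
      have hQ' : IsPGroup p Q' := by
        have h1 : IsPGroup p ((TQ S p).map (MulAut.conj g⁻¹).toMonoidHom) := (TQ_p S p).map _
        exact h1.comap_of_injective Mx.subtype Subtype.val_injective
      obtain ⟨x, hx⟩ := hQ'.nonempty_fixed_point_of_prime_not_dvd_card (Mx ⧸ P.B.subgroupOf Mx) (by
        rw [← Subgroup.index_eq_card]
        exact hidx s hs)
      induction x using QuotientGroup.induction_on with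
      | _ m =>
      refine ⟨m, m.2, fun q hq => ?_⟩
      have hqM : g⁻¹ * q * g ∈ Mx := hg1 q hq
      have h1 := hx ⟨⟨g⁻¹ * q * g, hqM⟩, ⟨q, hq, by show g⁻¹ * q * g⁻¹⁻¹ = _; rw [inv_inv]; rfl⟩⟩
      have h2 : (QuotientGroup.mk ((⟨g⁻¹ * q * g, hqM⟩ : Mx) * m) : Mx ⧸ P.B.subgroupOf Mx) = QuotientGroup.mk m := h1
      rw [eq_comm, QuotientGroup.eq, Subgroup.mem_subgroupOf] at h2
      have h3 : (m : G)⁻¹ * (g⁻¹ * q * g * m) ∈ P.B := h2
      rwa [← mul_assoc] at h3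
    set g' := g * m with hg'
    have hg'q : ∀ q ∈ TQ S p, g'⁻¹ * q * g' ∈ UT S := by
      intro q hq
      rw [← hPB]
      have e : g'⁻¹ * q * g' = m⁻¹ * (g⁻¹ * q * g) * m := by rw [hg']; group
      rw [e]
      exact hmq q hq
    have hg'a : g'⁻¹ * (a : MulAut G) g' * H.sel a ∈ Mx := by
      have e : g'⁻¹ * (a : MulAut G) g' * H.sel a =
          m⁻¹ * (g⁻¹ * (a : MulAut G) g * H.sel a) * ((H.sel a)⁻¹ * (a : MulAut G) m * H.sel a) := by
        rw [hg', map_mul]; group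
      rw [e]
      exact mul_mem (mul_mem (inv_mem hm) hg2) ((H.sel_spec a hBM m).2 hm)
    obtain ⟨w, hw1, hw2, hwg⟩ := exists_dih S hR hp2 hc hc1 hg'q
    set b₁ := w⁻¹ * g' with hb₁
    have hb₁B : b₁ ∈ P.B := by rw [hPB]; exact hwg
    set s'' := w⁻¹ * (a : MulAut G) w * H.sel a with hs''
    have hs''M : s'' ∈ Mx := by
      have e : s'' = b₁ * (g'⁻¹ * (a : MulAut G) g' * H.sel a) * ((H.sel a)⁻¹ * (a : MulAut G) b₁⁻¹ * H.sel a) := by
        have e1 : w = g' * b₁⁻¹ := by rw [hb₁]; group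
        have e2 : (a : MulAut G) w = (a : MulAut G) g' * (a : MulAut G) b₁⁻¹ := by rw [e1, map_mul]
        rw [hs'', e2, hb₁]; group
      rw [e]
      exact mul_mem (mul_mem (hBM hb₁B) hg'a) ((H.sel_spec a hBM _).2 (hBM (inv_mem hb₁B)))
    let cw : A := ⟨MulAut.conj w, hA w⟩
    set a'' : A := cw⁻¹ * a * cw⁻¹⁻¹ with ha''
    have ha''v : ∀ x, (a'' : MulAut G) x = w⁻¹ * (a : MulAut G) (w * x * w⁻¹) * w := by
      intro x
      have e : a'' = cw⁻¹ * a * cw := by rw [ha'', inv_inv]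
      have e2 : ((cw⁻¹ : A) : MulAut G) = MulAut.conj w⁻¹ := by
        show (MulAut.conj w)⁻¹ = _
        rw [map_inv]
      rw [e]
      show ((cw⁻¹ : A) : MulAut G) ((a : MulAut G) (w * x * w⁻¹)) = _
      rw [e2]
      show w⁻¹ * (a : MulAut G) (w * x * w⁻¹) * w⁻¹⁻¹ = _
      rw [inv_inv]
    have hsel : Sel P (a'' : MulAut G) s'' := by
      intro x
      have e : s''⁻¹ * (a'' : MulAut G) x * s'' = (H.sel a)⁻¹ * (a : MulAut G) x * H.sel a := by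
        rw [ha''v, hs'', map_mul, map_mul, map_inv]; group
      rw [e]
      exact H.sel_Sel a x
    have hq'' : ∀ q ∈ TQ S p, (a'' : MulAut G) q = q := by
      intro q hq
      rw [ha''v, ha _ (TQ_conj S hw1 hq)]
      group
    have hB'' : s'' ∈ P.B := by
      rcases mem_par hs hs''M with h1 | h1
      · exact h1
      · exfalso
        obtain ⟨b1, hb1, b2, hb2, e⟩ := mem_C.1 h1
        rw [hPB] at hb1 hb2
        obtain ⟨u, hu, t, ht, rfl⟩ := hb1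
        have hsd : S.IsDihE s := by
          rcases hs' with rfl | rfl
          · exact n1_dih S
          · exact n2_dih S
        refine panel S hPB hF hR hp2 hc hc1 hq'' hs' hsel hu (b := (s⁻¹ * t * s) * b2)
          (mul_mem (T_le_UT S (dih_T' S hsd ht)) hb2) ?_
        rw [e]; group
    have hsel1 : Sel P (a'' : MulAut G) 1 := by
      intro x
      rw [← hsel x, inv_one, one_mul, mul_one]
      constructor
      · intro h1
        exact mul_mem (mul_mem (inv_mem hB'') h1) hB''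
      · intro h1
        have h2 := mul_mem (mul_mem hB'' h1) (inv_mem hB'')
        have e : s'' * (s''⁻¹ * (a'' : MulAut G) x * s'') * s''⁻¹ = (a'' : MulAut G) x := by group
        rwa [e] at h2
    have hbase := H.base cs hcs h hA hp2 (TQ_p S p) (by
      rw [hPB]
      exact (TQ_le S p).trans (T_le_UT S)) (fun u hu h => CU S hc hc1 hu h) hq'' hsel1
    obtain ⟨hirr, -⟩ := H.stA cs hcs h hA
    have hcl := Characters.Core.isIrr_isClassFunction hirr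
    rw [Characters.Core.isClassFunction_def] at hcl
    have h5 := hcl a cw⁻¹
    have h6 : stZ (H.PA cs hcs) a'' = stZ (H.PA cs hcs) a := by exact_mod_cast h5
    rwa [h6] at hbase
  · have h1 := H.noFix cs hcs hA (TQ_p S p) (a := a) ha (by
      intro Mx hB hM g hg hga
      apply hex
      rcases le_par (s := S.n1) (t := S.n2) hPS hB hM with h2 | h2
      · exact ⟨S.n1, by rw [hPS]; exact Or.inl rfl, g, fun q hq => h2 (hg q hq), h2 hga⟩
      · exact ⟨S.n2, by rw [hPS]; exact Or.inr rfl, g, fun q hq => h2 (hg q hq), h2 hga⟩)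
    rw [hcard] at h1
    exact h1

end full

end Cfsg.Agent.H315.CY
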