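import Cfsg.Agent.H315.CY.TwF
import Cfsg.Agent.H776.CY.Congr

/-!
# S4829: the row `²F₄(q)` (helper315)

`rowForA_tf4` : `RowForA p (Iso2F4)` for every odd prime `p` (all automorphisms, no hypothesis on the Sylow subgroups).
-/

set_option autoImplicit false
set_option linter.unusedSectionVars false

open Cfsg Cfsg.Lie

namespace Cfsg.Agent.H315.CY

open Cfsg.Agent.KFacts.TwF4 Cfsg.Agent.KFacts.TwF4.AutTau
open Cfsg.Agent.SplitTwo Cfsg.Agent.SplitTwo.ZS Cfsg.Agent.TitsThree.RankTwoZ Cfsg.Agent.TitsThree.RankTwoRGD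
open Cfsg.Agent.SplitTwo.RootSysZ Cfsg.Agent.H978.BR
open Cfsg.Agent.ChevalleyStructure.TwF4.Rel Cfsg.Agent.ChevalleyStructure.TwF4.TwistedFix
open Cfsg.Agent.KFacts.TwF4.Inst Cfsg.Agent.H770.CY
open Cfsg.Agent.Schreier.TwFFour

section main

variable {K : Type} [Field K] [Fintype K] {m : ℕ}

theorem J_eq [CharP K 2] {φ : K →+* K} (hK : Fintype.card K = 2 ^ (2 * m + 1)) (hφ : Rln φ (2 ^ m)) :
    J (full hK hφ).XZ 1 8 = U0 K (2 ^ m) := by
  rw [Inst.U0_eq hφ]
  apply le_antisymm
  · refine J_le fun k h1 h2 => ?_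
    obtain ⟨n, rfl⟩ := Int.eq_ofNat_of_zero_le (by omega : 0 ≤ k)
    refine le_iSup₂_of_le n ⟨by omega, by omega⟩ ?_
    intro x hx
    have h3 : x ∈ Cfsg.Agent.Octagon.KSys.XX K (2 ^ m) (((n : ℕ) : ℤ) : ZMod (2 * 8)) := hx
    rwa [Int.cast_natCast] at h3
  · refine iSup₂_le fun k hk => ?_
    intro x hx
    refine mem_J (k := (k : ℤ)) ?_ (by exact_mod_cast hk.1) (by exact_mod_cast hk.2)
    show x ∈ Cfsg.Agent.Octagon.KSys.XX K (2 ^ m) (((k : ℕ) : ℤ) : ZMod (2 * 8))
    rwa [Int.cast_natCast]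

open Pointwise Cfsg.Agent.Tits.OfBN Cfsg.Agent.LieExceptional.BNPairCore Cfsg.Agent.ChevalleyStructure.TwF4.Twisted in
/-- **the row `²F₄(q)`** -/
theorem rowA_tf4 [Fintype ↥(twistedF4 K (2 ^ m))] (hm : 1 ≤ m) (hK : Fintype.card K = 2 ^ (2 * m + 1)) {p : ℕ} [hp : Fact p.Prime] (hp2 : p ≠ 2)
    (hd : p ∣ Nat.card ↥(twistedF4 K (2 ^ m))) : RowA p ↥(twistedF4 K (2 ^ m)) := by
  have h2 : Fact (Nat.Prime 2) := ⟨Nat.prime_two⟩
  have hchar : CharP K 2 := charP_two hK
  obtain ⟨φ, hφ⟩ := exists_rln hK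
  set S := full hK hφ with hS
  have hR : S.R.p = 2 := rfl
  obtain ⟨P, hsp, hPS, hV, hV', hcV, hcV', hcU, hcT⟩ := exists_pairE hm hK hφ
  have hn1 : S.n1 = Cfsg.Agent.Octagon.KSys.m1 K (2 ^ m) := rfl
  have hn2 : S.n2 = Cfsg.Agent.Octagon.KSys.m2 hφ := rfl
  have hU0 : J S.XZ 1 8 = U0 K (2 ^ m) := J_eq hK hφ
  rw [← hn1, ← hn2] at hPS
  rw [← hU0] at hsp hcU
  rw [← hU0, ← hn1] at hV
  rw [← hU0, ← hn2] at hV'
  rw [← hU0] at hcV hcV'
  have hG := Cfsg.Agent.S1068.result hK
  set q := 2 ^ (2 * m + 1) with hq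
  have hq2 : 2 ≤ q := by rw [hq, pow_succ]; have := Nat.one_le_two_pow (n := 2 * m); omega
  have hF : ∃ c : Kˣ, c ≠ 1 := by
    by_contra hcon
    push Not at hcon
    have h3 : Nat.card Kˣ = 1 := Nat.card_eq_one_iff_unique.2 ⟨⟨fun a b => by rw [hcon a, hcon b]⟩, ⟨1⟩⟩
    rw [Nat.card_units, Nat.card_eq_fintype_card, hK] at h3
    have h4 : 8 ≤ q := by
      rw [hq]
      calc 8 = 2 ^ 3 := by norm_num
        _ ≤ 2 ^ (2 * m + 1) := Nat.pow_le_pow_right (by norm_num) (by omega)
    omega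
  have hPB : P.B = UT S := by
    ext g
    rw [mem_UT_iff S hF hR, ← hsp.normalizer_eq, Subgroup.mem_normalizer_iff]
  have hs : S.n1 ∈ P.S := by rw [hPS]; exact Or.inl rfl
  have ht : S.n2 ∈ P.S := by rw [hPS]; exact Or.inr rfl
  have hc1 := card_par hsp hs hV
  have hc2 := card_par hsp ht hV'
  rw [hcV] at hc1
  rw [hcV'] at hc2
  have hBpos : 0 < Nat.card P.B := Nat.card_pos
  have hne12 : Nat.card (P.parabolic {S.n1}) ≠ Nat.card (P.parabolic {S.n2}) := by
    rw [hc1, hc2]
    intro h3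
    have h4 := Nat.eq_of_mul_eq_mul_left hBpos h3
    nlinarith
  have hTP : TPall P := tp_two hsp hPS hne12
  by_cases hpq : p ∣ q - 1
  · -- the torus case
    obtain ⟨c, hc⟩ : ∃ c : Kˣ, orderOf c = p := by
      apply exists_prime_orderOf_dvd_card' p
      rw [Nat.card_units, Nat.card_eq_fintype_card, hK]
      exact hpq
    have hcp : c ^ p = 1 := by rw [← hc]; exact pow_orderOf_eq_one c
    have hc1' : c ≠ 1 := by
      rintro rfl
      rw [orderOf_one] at hc
      exact hp.out.one_lt.ne hc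
    have hidx : ∀ s ∈ P.S, ¬ p ∣ P.B.relIndex (P.parabolic {s}) := by
      have hp3 : 2 < p := lt_of_le_of_ne hp.out.two_le (Ne.symm hp2)
      obtain ⟨k, hk⟩ := hpq
      have hk' : q = p * k + 1 := by omega
      have key : ∀ j : ℕ, ¬ p ∣ q ^ j + 1 := by
        intro j hj
        have h3 : q ^ j ≡ 1 [MOD p] := by
          have h4 : q ≡ 1 [MOD p] := by
            rw [hk', Nat.ModEq, Nat.add_comm, Nat.add_mul_mod_self_left]
          have h5 := h4.pow j
          rwa [one_pow] at h5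
        have h4 := h3.add_right 1
        have h5 : (0 : ℕ) ≡ 2 [MOD p] := ((Nat.modEq_zero_iff_dvd).2 hj).symm.trans h4
        rw [Nat.ModEq, Nat.zero_mod, Nat.mod_eq_of_lt hp3] at h5
        omega
      have hrel : ∀ {w : ↥(twistedF4 K (2 ^ m))} {x : ℕ}, Nat.card (P.parabolic {w}) = Nat.card P.B * x →
          P.B.relIndex (P.parabolic {w}) = x := by
        intro w x hx
        have h3 : Nat.card P.B * P.B.relIndex (P.parabolic {w}) = Nat.card (P.parabolic {w}) := by
          have h4 := Subgroup.card_mul_index (P.B.subgroupOf (P.parabolic {w}))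
          have hle : P.B ≤ P.parabolic {w} := le_sup_left
          have h5 := Nat.card_congr (Subgroup.subgroupOfEquivOfLe hle).toEquiv
          rw [h5] at h4
          exact h4
        rw [hx] at h3
        exact Nat.eq_of_mul_eq_mul_left hBpos h3
      intro s hs
      rw [hPS] at hs
      rcases hs with rfl | hs
      · rw [hrel hc1]
        have := key 1
        rwa [pow_one] at this
      · rw [Set.mem_singleton_iff] at hs
        subst hs
        rw [hrel hc2]
        exact key 2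
    refine rowA_of_TP hsp ⟨_, hs⟩ hTP hp2 1 ?_
    intro hN M cs hcs _ _ A hA H a hQ
    obtain ⟨Q, hQ⟩ := hQ
    have hcard : Fintype.card P.S = 2 := by
      rw [← Nat.card_eq_fintype_card, hPS]
      rw [Nat.card_coe_set_eq, Set.ncard_pair]
      intro h3
      rw [h3] at hne12
      exact hne12 rfl
    obtain ⟨R, hR'⟩ := (TQ_p S p).exists_le_sylow
    obtain ⟨g, hg⟩ := MulAction.exists_smul_eq (↥(twistedF4 K (2 ^ m))) Q R
    let cg : A := ⟨MulAut.conj g, hA g⟩
    have hval : ∀ x ∈ TQ S p, ((cg * a * cg⁻¹ : A) : MulAut _) x = x := by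
      intro x hx
      have hxR : x ∈ (R : Subgroup _) := hR' hx
      rw [← hg] at hxR
      have hxR' : x ∈ MulAut.conj g • (Q : Subgroup ↥(twistedF4 K (2 ^ m))) := hxR
      obtain ⟨y, hy, hyx⟩ := hxR'
      have hyx' : g * y * g⁻¹ = x := hyx
      have e2 : ((cg⁻¹ : A) : MulAut ↥(twistedF4 K (2 ^ m))) = MulAut.conj g⁻¹ := by
        show (MulAut.conj g)⁻¹ = _
        rw [map_inv]
      show ((cg : A) : MulAut ↥(twistedF4 K (2 ^ m))) ((a : MulAut _) (((cg⁻¹ : A) : MulAut _) x)) = x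
      rw [e2]
      have e3 : (MulAut.conj g⁻¹) x = y := by
        show g⁻¹ * x * g⁻¹⁻¹ = y
        rw [← hyx']; group
      rw [e3, hQ y hy]
      exact hyx'
    have h3 := tor S hPB hPS hsp hF hR hp2 hcp hc1' hidx cs hcs hcard H hA (a := cg * a * cg⁻¹) hval
    obtain ⟨hirr, -⟩ := H.stA cs hcs hsp hA
    have hcl := Characters.Core.isIrr_isClassFunction hirr
    rw [Characters.Core.isClassFunction_def] at hcl
    have h5 := hcl a cg
    have h6 : stZ (H.PA cs hcs) (cg * a * cg⁻¹) = stZ (H.PA cs hcs) a := by exact_mod_cast h5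
    rwa [h6] at h3
  · -- the elliptic case
    refine rowA_of_split hsp ⟨_, hs⟩ hTP hp2 ?_
    intro M hBM hM
    have hB : Nat.card P.B = q ^ 12 * (q - 1) ^ 2 := by rw [card_B hsp, hcU, hcT]
    have hpp := hp.out
    have hp2' : ¬ p ∣ 2 := fun h => hp2 ((Nat.prime_dvd_prime_iff_eq hpp Nat.prime_two).1 h)
    have hpq' : ¬ p ∣ q := fun h => hp2' (hpp.dvd_of_dvd_pow h)
    have h36 : p ∣ (q ^ 3 + 1) ∨ p ∣ (q ^ 6 + 1) := by
      rw [hG] at hd
      rcases (hpp.dvd_mul).1 hd with h | h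
      · rcases (hpp.dvd_mul).1 h with h | h
        · rcases (hpp.dvd_mul).1 h with h | h
          · rcases (hpp.dvd_mul).1 h with h | h
            · exact (hpq' (hpp.dvd_of_dvd_pow h)).elim
            · exact (hpq h).elim
          · exact Or.inl h
        · have h4 : q ^ 4 - 1 = (q - 1) * ((q + 1) * (q ^ 2 + 1)) := by
            obtain ⟨k, hk⟩ : ∃ k, q = k + 1 := ⟨q - 1, by omega⟩
            rw [hk]
            have : 1 ≤ (k + 1) ^ 4 := Nat.one_le_pow _ _ (by omega)
            zify [this]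
            push_cast
            ring
          rw [h4] at h
          rcases (hpp.dvd_mul).1 h with h | h
          · exact (hpq h).elim
          · rcases (hpp.dvd_mul).1 h with h | h
            · left
              have e : q ^ 3 + 1 = (q + 1) * (q ^ 2 + 1 - q) := by
                have : q ≤ q ^ 2 + 1 := by nlinarith
                zify [this]
                ring
              rw [e]; exact Dvd.dvd.mul_right h _
            · right
              have e : q ^ 6 + 1 = (q ^ 2 + 1) * (q ^ 4 + 1 - q ^ 2) := by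
                have : q ^ 2 ≤ q ^ 4 + 1 :=
                  (Nat.pow_le_pow_right (by omega) (by norm_num)).trans (Nat.le_succ _)
                zify [this]
                ring
              rw [e]; exact Dvd.dvd.mul_right h _
      · exact Or.inr h
    have key : ∀ {w : ↥(twistedF4 K (2 ^ m))} {x y : ℕ}, Nat.card (P.parabolic {w}) = Nat.card P.B * (x + 1) →
        (x + 1) * (y + 1) = (q + 1) * (q ^ 2 + 1) → M ≤ P.parabolic {w} → p ∣ M.index := by
      intro w x y h5 hxy hle
      have h6 := Subgroup.card_mul_index (P.parabolic {w})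
      rw [h5, hB, hG] at h6
      have h7 := arith_idx hq2 (c := q ^ 12) (by positivity) (i := (P.parabolic {w}).index) (x := x) (y := y)
        (by rw [h6]) hxy
      refine Dvd.dvd.trans ?_ (Subgroup.index_dvd_of_le hle)
      rw [h7]
      rcases h36 with h | h
      · exact Dvd.dvd.mul_right (Dvd.dvd.mul_right h _) _
      · exact Dvd.dvd.mul_left h _
    rcases le_par hPS hBM hM with h | h
    · exact key hc1 (y := q ^ 2) (by ring) h
    · exact key hc2 (y := q) (by ring) h

/-- **the row `tf4`** of S4829: all automorphisms, every odd prime, no hypothesis on the Sylow subgroups -/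
theorem rowForA_tf4 {p : ℕ} [hp : Fact p.Prime] (hp2 : p ≠ 2) : RowForA p (fun X _ => Lie.Iso2F4 X) := by
  intro X _ _ _ _ hd h
  obtain ⟨K, _, _, m, hm, hK, ⟨e⟩⟩ := h
  rw [Nat.card_congr e.toEquiv] at hd
  have hf : Fintype ↥(twistedF4 K (2 ^ m)) := Fintype.ofFinite _
  exact Cfsg.Agent.H776.CY.RowA.congr e (rowA_tf4 hm hK hp2 hd)

end main

end Cfsg.Agent.H315.CY
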